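import Mathlib
import Cfsg.Agent.Omega.TitsAmal.Tri

/-!
# Section A of the blueprint `P21-FIN-helper531.md`, (A1)-(A5)
-/

set_option autoImplicit false

namespace Cfsg.Agent.Omega.TitsAmal.TriAct

open Subgroup Cfsg Cfsg.Agent.ZN Cfsg.Agent.MinSimple.Geo
open Cfsg.Agent.Omega.TitsAmal.Tri (Pt kst K Q)
open Cfsg.Agent.Classification.TitsFin.Mod16
open Cfsg.Agent.ZN.Block (conj_mem_of_normalizer conj_mem_of_normalizer' le_normalizer_of_forall
  mem_normalizer_of card_sup_mul_card_inf card_mul_relIndex' mul_mem_of_relIndex_two)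

universe u

variable {G : Type u} [Group G]

/-! ### the action of `C_p` on `U_p / ⟨p⟩` -/

/-- the module `M = U_p / ⟨p⟩` with the action of `C_p` -/
structure ActData (U C : G → Subgroup G) (p : G) (M : Type u) [CommGroup M] where
  π : ↥(U p) →* M
  α : ↥(C p) →* MulAut M
  card : Nat.card M = 16
  sq : ∀ m : M, m * m = 1
  surj : Function.Surjective π
  ker : ∀ u, π u = 1 ↔ (u : G) = 1 ∨ (u : G) = p
  act : ∀ (c : C p) (u : U p) (hcu : (c : G) * u * (c : G)⁻¹ ∈ U p), α c (π u) = π ⟨_, hcu⟩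
  kerα : ∀ c, α c = 1 ↔ (c : G) ∈ Q U C p
  cardB : Nat.card α.range = 10 ∨ Nat.card α.range = 20

theorem exists_actData [Finite G] {V : Subgroup G} {U C : G → Subgroup G} {p : G} (h : Tri V U C) (hp : Pt V p) :
    ∃ (M : Type u) (_ : CommGroup M) (_ : Finite M), Nonempty (ActData U C p M) := by
  classical
  let _ : CommGroup (U p) := { (inferInstance : Group (U p)) with
    mul_comm := fun a b => Subtype.ext (h.commU hp a.2 b.2) }
  have hpp := h.pp hp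
  have hpU : p ∈ U p := h.V_le p hp hp.1
  let N : Subgroup (U p) := (zpowers p).subgroupOf (U p)
  have hN : ∀ u : U p, u ∈ N ↔ (u : G) = 1 ∨ (u : G) = p := fun u => by
    rw [mem_subgroupOf, mem_zpowers_iff_of_mul_self hpp]
  let φ : C p →* MulAut (U p) := (normalizerMonoidHom (U p)).comp (inclusion (h.C_norm p hp))
  have hφ : ∀ (c : C p) (u : U p), ((φ c u : U p) : G) = c * u * (c : G)⁻¹ := fun c u => rfl
  have hφN : ∀ c : C p, N.map (φ c : U p →* U p) = N := by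
    intro c
    ext u
    constructor
    · rintro ⟨v, hv, rfl⟩
      rw [SetLike.mem_coe, hN] at hv
      rw [hN]
      rcases hv with hv | hv
      · left
        change (c : G) * v * (c : G)⁻¹ = 1
        rw [hv]; group
      · right
        change (c : G) * v * (c : G)⁻¹ = p
        rw [hv, h.c_comm hp c.2]; group
    · intro hu
      refine ⟨u, hu, ?_⟩
      rw [hN] at hu
      apply Subtype.ext
      change (c : G) * u * (c : G)⁻¹ = u
      rcases hu with hu | hu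
      · rw [hu]; group
      · rw [hu, h.c_comm hp c.2]; group
  let α : C p →* MulAut (U p ⧸ N) :=
    { toFun := fun c => QuotientGroup.congr N N (φ c) (hφN c)
      map_one' := by
        ext m
        obtain ⟨u, rfl⟩ := QuotientGroup.mk_surjective m
        change QuotientGroup.mk ((φ 1) u) = QuotientGroup.mk u
        rw [map_one]; rfl
      map_mul' := fun a b => by
        ext m
        obtain ⟨u, rfl⟩ := QuotientGroup.mk_surjective m
        change QuotientGroup.mk ((φ (a * b)) u) = QuotientGroup.mk ((φ a) ((φ b) u))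
        rw [map_mul]; rfl }
  have hα : ∀ (c : C p) (u : U p), α c (QuotientGroup.mk u) = QuotientGroup.mk (φ c u) := fun _ _ => rfl
  have hker : ∀ c, α c = 1 ↔ (c : G) ∈ Q U C p := by
    intro c
    rw [h.mem_Q_iff hp]
    constructor
    · intro hc
      refine ⟨c.2, fun u hu => ?_⟩
      have h1 : α c (QuotientGroup.mk ⟨u, hu⟩) = QuotientGroup.mk ⟨u, hu⟩ := by rw [hc]; rfl
      rw [hα, eq_comm, QuotientGroup.eq, hN] at h1
      have h2 : (((⟨u, hu⟩ : U p)⁻¹ * φ c ⟨u, hu⟩ : U p) : G) = u⁻¹ * (c * u * (c : G)⁻¹) := rfl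
      rw [h2] at h1
      rcases h1 with h1 | h1
      · left
        rw [inv_mul_eq_one] at h1
        exact h1.symm
      · right
        rw [inv_mul_eq_iff_eq_mul] at h1
        rw [h1, h.commU hp hu hpU]
    · rintro ⟨-, h1⟩
      ext m
      obtain ⟨u, rfl⟩ := QuotientGroup.mk_surjective m
      rw [hα]
      change _ = QuotientGroup.mk u
      rw [eq_comm, QuotientGroup.eq, hN]
      change (u : G)⁻¹ * (c * u * (c : G)⁻¹) = 1 ∨ (u : G)⁻¹ * (c * u * (c : G)⁻¹) = p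
      rcases h1 u u.2 with h2 | h2
      · left; rw [h2, inv_mul_cancel]
      · right; rw [h2, inv_mul_eq_iff_eq_mul, h.commU hp u.2 hpU]
  refine ⟨U p ⧸ N, inferInstance, inferInstance, ⟨{
    π := QuotientGroup.mk' N
    α := α
    card := ?_
    sq := ?_
    surj := QuotientGroup.mk'_surjective N
    ker := ?_
    act := ?_
    kerα := hker
    cardB := ?_ }⟩⟩
  · have h1 : Nat.card N = 2 := by
      rw [Nat.card_congr (subgroupOfEquivOfLe (zpowers_le.mpr hpU)).toEquiv, Nat.card_zpowers]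
      exact orderOf_eq_prime (by rw [pow_two]; exact hpp) hp.2
    have h2 := Subgroup.card_eq_card_quotient_mul_card_subgroup N
    rw [h1, h.cardU p hp] at h2
    omega
  · intro m
    obtain ⟨u, rfl⟩ := QuotientGroup.mk_surjective m
    rw [← QuotientGroup.mk_mul]
    have : u * u = 1 := Subtype.ext (h.sqU p hp u u.2)
    rw [this]; rfl
  · intro u
    rw [QuotientGroup.mk'_apply, QuotientGroup.eq_one_iff, hN]
  · intro c u hcu
    rfl
  · have h1 : α.ker = (Q U C p).subgroupOf (C p) := by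
      ext c
      rw [MonoidHom.mem_ker, hker, mem_subgroupOf]
    rw [← Subgroup.index_ker, h1]
    exact h.idx p hp

/-- `f` has odd order and induces an automorphism of order 5 of `U p / ⟨p⟩` -/
structure IsF (U C : G → Subgroup G) (p f : G) : Prop where
  mem : f ∈ C p
  odd : Odd (orderOf f)
  notMem : f ∉ Q U C p
  pow : f ^ 5 ∈ Q U C p

variable {V : Subgroup G} {U C : G → Subgroup G} {p q : G}

namespace ActData

variable {M : Type u} [CommGroup M] (D : ActData U C p M)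

include D

theorem eq_iff (c d : C p) : D.α c = D.α d ↔ (c : G) * (d : G)⁻¹ ∈ Q U C p := by
  have h1 := D.kerα (c * d⁻¹)
  rw [map_mul, map_inv, mul_inv_eq_one] at h1
  exact h1

theorem eq_iff' {c d : G} (hc : c ∈ C p) (hd : d ∈ C p) :
    D.α ⟨c, hc⟩ = D.α ⟨d, hd⟩ ↔ c * d⁻¹ ∈ Q U C p := D.eq_iff _ _

theorem kerα' {c : G} (hc : c ∈ C p) : D.α ⟨c, hc⟩ = 1 ↔ c ∈ Q U C p := D.kerα _

theorem x5 {f : G} (hf : IsF U C p f) : D.α ⟨f, hf.mem⟩ ^ 5 = 1 := by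
  rw [← map_pow, D.kerα]
  exact hf.pow

theorem x1 {f : G} (hf : IsF U C p f) : D.α ⟨f, hf.mem⟩ ≠ 1 := by
  rw [Ne, D.kerα]
  exact hf.notMem

theorem o5 {f : G} (hf : IsF U C p f) : orderOf (D.α ⟨f, hf.mem⟩) = 5 := by
  have : Fact (Nat.Prime 5) := ⟨by norm_num⟩
  exact orderOf_eq_prime (D.x5 hf) (D.x1 hf)

/-- equality in the module -/
theorem π_eq_iff (u v : U p) : D.π u = D.π v ↔ (u : G) = v ∨ (u : G) = p * v := by
  rw [← mul_inv_eq_one, ← map_inv, ← map_mul, D.ker]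
  constructor
  · rintro (h | h)
    · left; exact mul_inv_eq_one.mp h
    · right; exact mul_inv_eq_iff_eq_mul.mp h
  · rintro (h | h)
    · left; exact mul_inv_eq_one.mpr h
    · right; exact mul_inv_eq_iff_eq_mul.mpr h

end ActData

theorem exists_isF [Finite G] (h : Tri V U C) (hp : Pt V p) : ∃ f, IsF U C p f := by
  obtain ⟨M, _, _, ⟨D⟩⟩ := exists_actData h hp
  obtain ⟨x, ⟨c, rfl⟩, hx5, hx1⟩ := exists_x D.cardB
  have ho : orderOf c ≠ 0 := (orderOf_pos c).ne'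
  obtain ⟨k, m, hm, he⟩ := Nat.exists_eq_two_pow_mul_odd ho
  have h1 : orderOf (c ^ 2 ^ k) = m := by
    rw [orderOf_pow, he, Nat.gcd_mul_right_left]
    exact Nat.mul_div_cancel_left _ (pow_pos (by norm_num) _)
  refine ⟨(c ^ 2 ^ k : C p), (c ^ 2 ^ k).2, ?_, ?_, ?_⟩
  · rw [orderOf_coe, h1]; exact hm
  · rw [← D.kerα, map_pow]
    intro h2
    have : Fact (Nat.Prime 5) := ⟨by norm_num⟩
    have h3 : orderOf (D.α c) = 5 := orderOf_eq_prime hx5 hx1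
    have h4 := orderOf_dvd_of_pow_eq_one h2
    rw [h3] at h4
    have := (Nat.Prime.dvd_of_dvd_pow (by norm_num) h4)
    omega
  · have h2 : D.α ((c ^ 2 ^ k) ^ 5) = 1 := by
      rw [← pow_mul, mul_comm, pow_mul, map_pow, map_pow, hx5, one_pow]
    exact (D.kerα _).mp h2

theorem IsF.conj [Finite G] (h : Tri V U C) (hp : Pt V p) {f c : G} (hf : IsF U C p f) (hc : c ∈ C p) :
    IsF U C p (c * f * c⁻¹) := by
  have hn := h.C_le_normQ hp
  refine ⟨mul_mem (mul_mem hc hf.mem) (inv_mem hc), ?_, fun hm => hf.notMem ?_, ?_⟩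
  · have : orderOf (c * f * c⁻¹) = orderOf f := by
      rw [← MulAut.conj_apply]; exact (MulAut.conj c).orderOf_eq f
    rw [this]; exact hf.odd
  · have := conj_mem_of_normalizer' hn hc hm
    have e : c⁻¹ * (c * f * c⁻¹) * c = f := by group
    rwa [e] at this
  · rw [conj_pow]
    exact conj_mem_of_normalizer hn hc hf.pow

theorem IsF.norm [Finite G] (h : Tri V U C) (hp : Pt V p) {f n : G} (hf : IsF U C p f)
    (hn : n ∈ normalizer (V : Set G)) : IsF U C (n * p * n⁻¹) (n * f * n⁻¹) := by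
  have h1 : cj n (Q U C p) = Q U C (n * p * n⁻¹) := by
    change cj n (kst _ _ _) = kst _ _ _
    rw [Tri.cj_kst, h.conjC n hn p hp, h.conjU n hn p hp]
  refine ⟨?_, ?_, fun hm => hf.notMem ?_, ?_⟩
  · rw [← h.conjC n hn p hp]; exact conj_mem_cj hf.mem
  · have : orderOf (n * f * n⁻¹) = orderOf f := by
      rw [← MulAut.conj_apply]; exact (MulAut.conj n).orderOf_eq f
    rw [this]; exact hf.odd
  · rw [← h1, mem_cj] at hm
    have e : n⁻¹ * (n * f * n⁻¹) * n = f := by group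
    rwa [e] at hm
  · rw [← h1, conj_pow]; exact conj_mem_cj hf.pow

/-- (A1) -/
theorem IsF.fixed [Finite G] (h : Tri V U C) (hp : Pt V p) {f u : G} (hf : IsF U C p f) (hu : u ∈ U p)
    (he : f * u * f⁻¹ = u ∨ f * u * f⁻¹ = p * u) : u = 1 ∨ u = p := by
  obtain ⟨M, _, _, ⟨D⟩⟩ := exists_actData h hp
  have hfu := h.conj_memU hp hf.mem hu
  have h1 : D.π ⟨u, hu⟩ ∈ fx (D.α ⟨f, hf.mem⟩) := by
    rw [mem_fx, D.act ⟨f, hf.mem⟩ ⟨u, hu⟩ hfu, D.π_eq_iff]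
    exact he
  rw [fx_eq_bot D.card (D.x5 hf) (D.x1 hf), mem_bot] at h1
  exact (D.ker ⟨u, hu⟩).mp h1

/-- (A1) -/
theorem IsF.irred [Finite G] (h : Tri V U C) (hp : Pt V p) {f : G} (hf : IsF U C p f) {B : Subgroup G}
    (hB : B ≤ U p) (hpB : p ∈ B) (hinv : ∀ b ∈ B, f * b * f⁻¹ ∈ B) :
    (∀ b ∈ B, b = 1 ∨ b = p) ∨ B = U p := by
  obtain ⟨M, _, _, ⟨D⟩⟩ := exists_actData h hp
  have h1 : ∀ a ∈ (B.subgroupOf (U p)).map D.π, D.α ⟨f, hf.mem⟩ a ∈ (B.subgroupOf (U p)).map D.π := by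
    rintro _ ⟨⟨b, hb⟩, hbB, rfl⟩
    have hbB' : b ∈ B := hbB
    exact ⟨⟨f * b * f⁻¹, hB (hinv b hbB')⟩, hinv b hbB', (D.act ⟨f, hf.mem⟩ ⟨b, hb⟩ _).symm⟩
  rcases Cfsg.Agent.Classification.TitsFin.Mod16.irred D.card (D.x5 hf) (D.x1 hf) h1 with h2 | h2
  · left
    intro b hb
    have h3 : D.π ⟨b, hB hb⟩ ∈ (B.subgroupOf (U p)).map D.π := ⟨⟨b, hB hb⟩, hb, rfl⟩
    rw [h2, mem_bot] at h3
    exact (D.ker _).mp h3
  · right
    refine le_antisymm hB fun u hu => ?_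
    have h3 : D.π ⟨u, hu⟩ ∈ (B.subgroupOf (U p)).map D.π := by rw [h2]; exact mem_top _
    obtain ⟨⟨b, hb⟩, hbB, he⟩ := h3
    have hbB' : b ∈ B := hbB
    rcases (D.π_eq_iff _ _).mp he.symm with h4 | h4
    · have h4' : u = b := h4
      rw [h4']; exact hbB'
    · have h4' : u = p * b := h4
      rw [h4']; exact mul_mem hpB hbB'

theorem ActData.exists_conj [Finite G] {M : Type u} [CommGroup M] (D : ActData U C p M) {f c : G}
    (hf : IsF U C p f) (hc : c ∈ C p) :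
    ∃ k, k < 5 ∧ D.α ⟨c, hc⟩ * D.α ⟨f, hf.mem⟩ * (D.α ⟨c, hc⟩)⁻¹ = D.α ⟨f, hf.mem⟩ ^ k := by
  have h5 : orderOf (⟨D.α ⟨f, hf.mem⟩, ⟨_, rfl⟩⟩ : D.α.range) = 5 := by
    rw [← orderOf_coe]; exact D.o5 hf
  have hfin : Finite D.α.range := Nat.finite_of_card_ne_zero (by rcases D.cardB with h | h <;> rw [h] <;> norm_num)
  obtain ⟨k, hk⟩ := Cfsg.Agent.Classification.TitsFin.Mod16.conj_mem D.cardB h5 ⟨D.α ⟨c, hc⟩, ⟨_, rfl⟩⟩
  refine ⟨k % 5, Nat.mod_lt _ (by norm_num), ?_⟩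
  have hk' := congrArg Subtype.val hk
  change D.α ⟨c, hc⟩ * D.α ⟨f, hf.mem⟩ * (D.α ⟨c, hc⟩)⁻¹ = D.α ⟨f, hf.mem⟩ ^ k at hk'
  rw [hk', ← D.o5 hf, pow_mod_orderOf]

/-- (A3) `⟨f⟩ Q_p` is normal in `C_p` -/
theorem IsF.normal [Finite G] (h : Tri V U C) (hp : Pt V p) {f c : G} (hf : IsF U C p f) (hc : c ∈ C p) :
    ∃ k, 0 < k ∧ k < 5 ∧ c * f * c⁻¹ * (f ^ k)⁻¹ ∈ Q U C p := by
  obtain ⟨M, _, _, ⟨D⟩⟩ := exists_actData h hp
  obtain ⟨k, hk5, hk⟩ := D.exists_conj hf hc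
  refine ⟨k, ?_, hk5, ?_⟩
  · rcases Nat.eq_zero_or_pos k with h0 | h0
    · exfalso
      rw [h0, pow_zero, mul_inv_eq_one, mul_eq_left] at hk
      exact D.x1 hf hk
    · exact h0
  · rw [← map_inv, ← map_mul, ← map_mul, ← map_pow, D.eq_iff] at hk
    exact hk

/-- (A3) elements of odd order of `C_p` lie in `⟨f⟩ Q_p` -/
theorem IsF.of_odd [Finite G] (h : Tri V U C) (hp : Pt V p) {f c : G} (hf : IsF U C p f) (hc : c ∈ C p)
    (ho : Odd (orderOf c)) : ∃ k < 5, c * (f ^ k)⁻¹ ∈ Q U C p := by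
  classical
  obtain ⟨M, _, _, ⟨D⟩⟩ := exists_actData h hp
  have hfin : Finite D.α.range := Nat.finite_of_card_ne_zero (by rcases D.cardB with h | h <;> rw [h] <;> norm_num)
  let x : D.α.range := ⟨D.α ⟨f, hf.mem⟩, ⟨_, rfl⟩⟩
  let b : D.α.range := ⟨D.α ⟨c, hc⟩, ⟨_, rfl⟩⟩
  have h5 : orderOf x = 5 := by rw [← orderOf_coe]; exact D.o5 hf
  have hnor : (zpowers x).Normal := by
    constructor
    rintro _ ⟨k, rfl⟩ g
    obtain ⟨j, hj⟩ := Cfsg.Agent.Classification.TitsFin.Mod16.conj_mem D.cardB h5 g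
    change g * x ^ k * g⁻¹ ∈ zpowers x
    rw [← conj_zpow, hj]
    exact zpow_mem (pow_mem (mem_zpowers x) _) _
  have h1 : Nat.card (zpowers x) * (zpowers x).index = Nat.card D.α.range := Subgroup.card_mul_index _
  rw [Nat.card_zpowers, h5] at h1
  have h2 : b ^ (zpowers x).index ∈ zpowers x := Subgroup.pow_index_mem _ b
  have hb : Odd (orderOf b) := by
    have h3 : orderOf b ∣ orderOf (⟨c, hc⟩ : C p) := by
      rw [← orderOf_coe]
      exact orderOf_map_dvd D.α _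
    have h4 : orderOf (⟨c, hc⟩ : C p) = orderOf c := by rw [← orderOf_coe]
    rw [h4] at h3
    exact ho.of_dvd_nat h3
  have h3 : Nat.Coprime (zpowers x).index (orderOf b) := by
    have h4 : (zpowers x).index = 2 ^ 1 ∨ (zpowers x).index = 2 ^ 2 := by
      rcases D.cardB with h | h <;> rw [h] at h1 <;> omega
    rcases h4 with h4 | h4 <;> rw [h4]
    · exact Nat.Coprime.pow_left _ hb.coprime_two_left
    · exact Nat.Coprime.pow_left _ hb.coprime_two_left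
  obtain ⟨m, hm⟩ := exists_pow_eq_self_of_coprime h3
  have h4 : b ∈ zpowers x := by rw [← hm]; exact pow_mem h2 _
  obtain ⟨k, hk⟩ := mem_zpowers_iff_mem_range_orderOf.mp h4 |> Finset.mem_image.mp
  rw [h5] at hk
  refine ⟨k, Finset.mem_range.mp hk.1, ?_⟩
  have h6 := congrArg Subtype.val hk.2
  change D.α ⟨f, hf.mem⟩ ^ k = D.α ⟨c, hc⟩ at h6
  rw [← map_pow] at h6
  exact (D.eq_iff _ _).mp h6.symm

/-- (A3) a 2-element commuting with `f` mod `Q_p` lies in `Q_p` -/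
theorem IsF.mem_Q_of_comm [Finite G] (h : Tri V U C) (hp : Pt V p) {f c : G} (hf : IsF U C p f) (hc : c ∈ C p)
    {n : ℕ} (hn : c ^ 2 ^ n ∈ Q U C p) (hcf : c * f * c⁻¹ * f⁻¹ ∈ Q U C p) : c ∈ Q U C p := by
  obtain ⟨M, _, _, ⟨D⟩⟩ := exists_actData h hp
  have h1 : D.α ⟨c, hc⟩ ^ 2 ^ n = 1 := by rw [← map_pow, D.kerα]; exact hn
  have h2 : D.α ⟨c, hc⟩ * D.α ⟨f, hf.mem⟩ = D.α ⟨f, hf.mem⟩ * D.α ⟨c, hc⟩ := by
    rw [← mul_inv_eq_iff_eq_mul, ← map_inv, ← map_mul, ← map_mul, D.eq_iff]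
    exact hcf
  exact (D.kerα _).mp (eq_one_of_comm D.card (D.x5 hf) (D.x1 hf) h1 h2)

theorem ActData.inv_of_sq [Finite G] {M : Type u} [CommGroup M] [Finite M] (D : ActData U C p M) {f c : G}
    (hf : IsF U C p f) (hc : c ∈ C p) (hcc : c * c ∈ Q U C p) (hcQ : c ∉ Q U C p) :
    D.α ⟨c, hc⟩ * D.α ⟨f, hf.mem⟩ * (D.α ⟨c, hc⟩)⁻¹ = (D.α ⟨f, hf.mem⟩)⁻¹ := by
  obtain ⟨k, -, hk⟩ := D.exists_conj hf hc
  refine conj_eq_inv D.card (D.x5 hf) (D.x1 hf) ?_ ?_ hk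
  · rw [← map_mul, D.kerα]; exact hcc
  · rw [Ne, D.kerα]; exact hcQ

/-- (A3) elements `c ∉ Q_p` with `c² ∈ Q_p` invert `f` mod `Q_p` -/
theorem IsF.inv_of_sq [Finite G] (h : Tri V U C) (hp : Pt V p) {f c : G} (hf : IsF U C p f) (hc : c ∈ C p)
    (hcc : c * c ∈ Q U C p) (hcQ : c ∉ Q U C p) : c * f * c⁻¹ * f ∈ Q U C p := by
  obtain ⟨M, _, _, ⟨D⟩⟩ := exists_actData h hp
  have h1 := D.inv_of_sq hf hc hcc hcQ
  rw [← map_inv, ← map_inv, ← map_mul, ← map_mul, D.eq_iff] at h1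
  change c * f * c⁻¹ * f⁻¹⁻¹ ∈ _ at h1
  rwa [inv_inv] at h1

/-- (A3) two such elements whose product is a 2-element are equal mod `Q_p` -/
theorem mul_mem_Q [Finite G] (h : Tri V U C) (hp : Pt V p) {c d : G} (hc : c ∈ C p) (hd : d ∈ C p)
    (hcc : c * c ∈ Q U C p) (hdd : d * d ∈ Q U C p) (hcQ : c ∉ Q U C p) (hdQ : d ∉ Q U C p) {n : ℕ}
    (hn : (c * d) ^ 2 ^ n ∈ Q U C p) : c * d ∈ Q U C p := by
  obtain ⟨M, _, _, ⟨D⟩⟩ := exists_actData h hp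
  obtain ⟨f, hf⟩ := exists_isF h hp
  have h1 := D.inv_of_sq hf hc hcc hcQ
  have h2 := D.inv_of_sq hf hd hdd hdQ
  have h3 : D.α ⟨c * d, mul_mem hc hd⟩ = D.α ⟨c, hc⟩ * D.α ⟨d, hd⟩ := by rw [← map_mul]; rfl
  have h4 : D.α ⟨c * d, mul_mem hc hd⟩ ^ 2 ^ n = 1 := by rw [← map_pow, D.kerα]; exact hn
  refine (D.kerα' (mul_mem hc hd)).mp (eq_one_of_comm D.card (D.x5 hf) (D.x1 hf) h4 ?_)
  rw [h3]
  generalize D.α ⟨c, hc⟩ = a at *
  generalize D.α ⟨d, hd⟩ = b at *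
  generalize D.α ⟨f, hf.mem⟩ = x at *
  calc a * b * x = a * (b * x * b⁻¹) * b := by group
    _ = (a * x * a⁻¹)⁻¹ * a * b := by rw [h2]; group
    _ = x * (a * b) := by rw [h1]; group

/-- (A3) in particular -/
theorem mul_mem_Q_of_mem_U [Finite G] (h : Tri V U C) (hp : Pt V p) (hq : Pt V q) {q' : G} (hq' : Pt V q')
    {a b : G} (ha : a ∈ U q) (hb : b ∈ U q') (haQ : a ∉ Q U C p) (hbQ : b ∉ Q U C p) : a * b ∈ Q U C p := by
  have key : ∀ q, Pt V q → U q ≤ o2 (centralizer (V : Set G)) := by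
    intro q hq
    refine le_o2 (h.U_le_centV hq) ?_ ((h.centV_le hq).trans (h.C_norm q hq))
    exact IsPGroup.of_card (n := 5) (by rw [h.cardU q hq]; norm_num)
  obtain ⟨n, hn⟩ := (isPGroup_o2 (centralizer (V : Set G))) ⟨a * b, mul_mem (key q hq ha) (key q' hq' hb)⟩
  have hn' : (a * b) ^ 2 ^ n = 1 := congrArg Subtype.val hn
  refine mul_mem_Q h hp (h.U_le_C hp hq ha) (h.U_le_C hp hq' hb) ?_ ?_ haQ hbQ (n := n) ?_
  · rw [h.sqU q hq a ha]; exact one_mem _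
  · rw [h.sqU q' hq' b hb]; exact one_mem _
  · rw [hn']; exact one_mem _

/-! ### the size of `[U_p, c]` -/

theorem ActData.card_comap {M : Type u} [CommGroup M] (D : ActData U C p M) (hU : Nat.card (U p) = 32)
    (A : Subgroup M) : Nat.card (A.comap D.π) = 2 * Nat.card A := by
  have h1 : (A.comap D.π).index = A.index := index_comap_of_surjective A D.surj
  have h2 := (A.comap D.π).card_mul_index
  have h3 := A.card_mul_index
  rw [h1, hU] at h2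
  rw [D.card] at h3
  have h4 : 0 < A.index := by
    rcases Nat.eq_zero_or_pos A.index with h | h
    · rw [h] at h3; omega
    · exact h
  have h5 : Nat.card (A.comap D.π) * A.index = 2 * Nat.card A * A.index := by
    rw [h2, mul_assoc, h3]
    norm_num
  exact Nat.eq_of_mul_eq_mul_right h4 h5

theorem ActData.dl_π {M : Type u} [CommGroup M] (D : ActData U C p M) {c v : G} (hc : c ∈ C p) (hv : v ∈ U p)
    (hcv : c * v * c⁻¹ ∈ U p) : dl (D.α ⟨c, hc⟩) (D.π ⟨v, hv⟩) =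
      D.π ⟨c * v * c⁻¹ * v⁻¹, mul_mem hcv (inv_mem hv)⟩ := by
  rw [dl_apply, D.act ⟨c, hc⟩ ⟨v, hv⟩ hcv]
  have e : (⟨c * v * c⁻¹ * v⁻¹, mul_mem hcv (inv_mem hv)⟩ : U p) = ⟨c * v * c⁻¹, hcv⟩ * (⟨v, hv⟩ : U p)⁻¹ := rfl
  rw [e, map_mul, map_inv, inv_eq D.sq, mul_comm]

/-- (A3) a 2-element `c ∉ Q_p` : if `p ∈ W` and `[U_p, c] ≤ W`, then `|W| ≥ 8` -/
theorem eight_le [Finite G] (h : Tri V U C) (hp : Pt V p) {c : G} (hc : c ∈ C p) {n : ℕ}
    (hn : c ^ 2 ^ n ∈ Q U C p) (hcQ : c ∉ Q U C p) {W : Subgroup G} (hpW : p ∈ W)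
    (hW : ∀ u ∈ U p, c * u * c⁻¹ * u⁻¹ ∈ W) : 8 ≤ Nat.card W := by
  obtain ⟨M, _, _, ⟨D⟩⟩ := exists_actData h hp
  obtain ⟨f, hf⟩ := exists_isF h hp
  -- a power `d` of `c`, `d ∉ Q_p`, `d² ∈ Q_p`
  have key : ∃ k : ℕ, c ^ k ∉ Q U C p ∧ c ^ k * c ^ k ∈ Q U C p := by
    clear hW hpW
    induction n with
    | zero => exact absurd (by simpa using hn) hcQ
    | succ n ih =>
      by_cases h1 : c ^ 2 ^ n ∈ Q U C p
      · exact ih h1
      · refine ⟨2 ^ n, h1, ?_⟩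
        rw [← pow_add, ← two_mul, ← pow_succ']
        exact hn
  obtain ⟨k, hk1, hk2⟩ := key
  have h1 := D.inv_of_sq hf (pow_mem hc k) hk2 hk1
  have h2 : fx (D.α ⟨c, hc⟩) ≤ fx (D.α ⟨c ^ k, pow_mem hc k⟩) := by
    have e : D.α ⟨c ^ k, pow_mem hc k⟩ = D.α ⟨c, hc⟩ ^ k := by rw [← map_pow]; rfl
    rw [e]
    intro m hm
    rw [mem_fx] at hm ⊢
    clear e hk1 hk2 h1
    induction k with
    | zero => rw [pow_zero]; rfl
    | succ k ih =>
      rw [pow_succ, Cfsg.Agent.Classification.TitsFin.Mod16.mul_apply, hm]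
      exact ih
  have h3 := card_fx_le D.card (D.x5 hf) (D.x1 hf) h1
  have h4 := card_le_of_le h2
  have h5 := card_range_dl D.sq (D.α ⟨c, hc⟩)
  rw [D.card] at h5
  have h6 : 4 ≤ Nat.card (dl (D.α ⟨c, hc⟩)).range := by
    by_contra hcon
    push Not at hcon
    have : Nat.card (dl (D.α ⟨c, hc⟩)).range * Nat.card (fx (D.α ⟨c, hc⟩)) ≤ 3 * 4 :=
      Nat.mul_le_mul (by omega) (by omega)
    omega
  have h7 := D.card_comap (h.cardU p hp) (dl (D.α ⟨c, hc⟩)).range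
  have h8 : Nat.card ((dl (D.α ⟨c, hc⟩)).range.comap D.π) ≤ Nat.card W := by
    have hmem : ∀ u : U p, u ∈ (dl (D.α ⟨c, hc⟩)).range.comap D.π → (u : G) ∈ W := by
      rintro u ⟨m, hm⟩
      obtain ⟨v, rfl⟩ := D.surj m
      have hcv := h.conj_memU hp hc v.2
      have h9 := D.dl_π hc v.2 hcv
      rw [hm, D.π_eq_iff] at h9
      rcases h9 with h9 | h9
      · rw [h9]; exact hW v v.2
      · rw [h9]; exact mul_mem hpW (hW v v.2)
    refine Nat.card_le_card_of_injective (fun u => (⟨u.1.1, hmem u.1 u.2⟩ : W)) ?_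
    intro a b hab
    exact Subtype.ext (Subtype.ext (congrArg (fun w : W => (w : G)) hab))
  omega

/-! ### (A4) -/

theorem comm_mem_E (h : Tri V U C) (hp : Pt V p) (hq : Pt V q) {a b : G} (ha : a ∈ U p) (hb : b ∈ U q) :
    a * b * a⁻¹ * b⁻¹ ∈ U p ⊓ U q := by
  refine mem_inf.mpr ⟨?_, ?_⟩
  · have h1 := h.conj_memU hp (h.U_le_C hp hq hb) (inv_mem ha)
    have e : a * b * a⁻¹ * b⁻¹ = a * (b * a⁻¹ * b⁻¹) := by group
    rw [e]; exact mul_mem ha h1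
  · exact mul_mem (h.conj_memU hq (h.U_le_C hq hp ha) hb) (inv_mem hb)

/-- (A4) `U_p ⊓ U_q = [U_p, t]⟨p⟩` -/
theorem exists_of_fix [Finite G] (h : Tri V U C) (hp : Pt V p) (hq : Pt V q) {t : G} (ht : t ∈ U q)
    (htQ : t ∉ Q U C p) {e : G} (he : e ∈ U p) (hte : t * e * t⁻¹ = e ∨ t * e * t⁻¹ = p * e) :
    ∃ v ∈ U p, e = t * v * t⁻¹ * v⁻¹ ∨ e = p * (t * v * t⁻¹ * v⁻¹) := by
  obtain ⟨M, _, _, ⟨D⟩⟩ := exists_actData h hp
  obtain ⟨f, hf⟩ := exists_isF h hp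
  have htC := h.U_le_C hp hq ht
  have htt := h.sqU q hq t ht
  have h1 := D.inv_of_sq hf htC (by rw [htt]; exact one_mem _) htQ
  have h2 : D.α ⟨t, htC⟩ * D.α ⟨t, htC⟩ = 1 := by
    rw [← map_mul, D.kerα]
    change t * t ∈ _
    rw [htt]; exact one_mem _
  have h3 : D.π ⟨e, he⟩ ∈ fx (D.α ⟨t, htC⟩) := by
    rw [mem_fx, D.act ⟨t, htC⟩ ⟨e, he⟩ (h.conj_memU hp htC he), D.π_eq_iff]
    exact hte
  rw [← range_dl_eq D.card D.sq (D.x5 hf) (D.x1 hf) h2 h1] at h3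
  obtain ⟨m, hm⟩ := h3
  obtain ⟨v, rfl⟩ := D.surj m
  have h4 := D.dl_π htC v.2 (h.conj_memU hp htC v.2)
  rw [hm, D.π_eq_iff] at h4
  exact ⟨v, v.2, h4⟩

/-- (A4) for `t ∈ U_q - Q_p` -/
theorem mem_E_iff' [Finite G] (h : Tri V U C) (hp : Pt V p) (hq : Pt V q) {t : G}
    (ht : t ∈ U q) (htQ : t ∉ Q U C p) {u : G} (hu : u ∈ U p) :
    u ∈ U q ↔ t * u * t⁻¹ = u ∨ t * u * t⁻¹ = p * u := by
  constructor
  · intro hu'
    left
    rw [h.commU hq ht hu', mul_inv_cancel_right]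
  · intro hte
    obtain ⟨v, hv, h1⟩ := exists_of_fix h hp hq ht htQ hu hte
    have h2 : t * v * t⁻¹ * v⁻¹ ∈ U q := (comm_mem_E h hq hp ht hv).1
    rcases h1 with h1 | h1
    · rw [h1]; exact h2
    · rw [h1]; exact mul_mem (h.V_le q hq hp.1) h2

theorem exists_of_mem_E' [Finite G] (h : Tri V U C) (hp : Pt V p) (hq : Pt V q) {t : G} (ht : t ∈ U q)
    (htQ : t ∉ Q U C p) {e : G} (he : e ∈ U p ⊓ U q) :
    ∃ v ∈ U p, e = t * v * t⁻¹ * v⁻¹ ∨ e = p * (t * v * t⁻¹ * v⁻¹) :=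
  exists_of_fix h hp hq ht htQ he.1 ((mem_E_iff' h hp hq ht htQ he.1).mp he.2)

theorem mem_E_iff [Finite G] (h : Tri V U C) (hp : Pt V p) (hq : Pt V q) (_ : p ≠ q) {t : G}
    (ht : t ∈ U q) (htQ : t ∉ Q U C p) {u : G} (hu : u ∈ U p) :
    u ∈ U q ↔ t * u * t⁻¹ = u ∨ t * u * t⁻¹ = p * u := mem_E_iff' h hp hq ht htQ hu

/-- (A4) `U_p ⊓ U_q = [U_p, t]⟨p⟩` -/
theorem exists_of_mem_E [Finite G] (h : Tri V U C) (hp : Pt V p) (hq : Pt V q) (_ : p ≠ q) {t : G} (ht : t ∈ U q)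
    (htQ : t ∉ Q U C p) {e : G} (he : e ∈ U p ⊓ U q) :
    ∃ v ∈ U p, e = t * v * t⁻¹ * v⁻¹ ∨ e = p * (t * v * t⁻¹ * v⁻¹) := exists_of_mem_E' h hp hq ht htQ he

/-- (A4) `p ∉ [U_p, t]` -/
theorem comm_ne [Finite G] (h : Tri V U C) (hp : Pt V p) (hq : Pt V q) (_ : p ≠ q) {t : G} (ht : t ∈ U q)
    (htQ : t ∉ Q U C p) {v : G} (hv : v ∈ U p) : t * v * t⁻¹ ≠ p * v := by
  intro he
  have h1 := (mem_E_iff' h hp hq ht htQ hv).mpr (Or.inr he)
  rw [h.commU hq ht h1, mul_inv_cancel_right, eq_comm, mul_eq_right] at he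
  exact hp.2 he

theorem card_E [Finite G] (h : Tri V U C) (hp : Pt V p) (hq : Pt V q) (hpq : p ≠ q) :
    Nat.card ↥(U p ⊓ U q) = 8 := by
  obtain ⟨t, ht, htQ⟩ := h.exists_t hp hq hpq
  obtain ⟨M, _, _, ⟨D⟩⟩ := exists_actData h hp
  obtain ⟨f, hf⟩ := exists_isF h hp
  have htC := h.U_le_C hp hq ht
  have htt := h.sqU q hq t ht
  have h1 := D.inv_of_sq hf htC (by rw [htt]; exact one_mem _) htQ
  have h2 : D.α ⟨t, htC⟩ * D.α ⟨t, htC⟩ = 1 := by
    rw [← map_mul, D.kerα]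
    change t * t ∈ _
    rw [htt]; exact one_mem _
  have h3 := card_fx D.card D.sq (D.x5 hf) (D.x1 hf) h2 h1
  have h4 := D.card_comap (h.cardU p hp) (fx (D.α ⟨t, htC⟩))
  rw [h3] at h4
  have h5 : (U p ⊓ U q).subgroupOf (U p) = (fx (D.α ⟨t, htC⟩)).comap D.π := by
    ext u
    rw [mem_subgroupOf, mem_inf, mem_comap, mem_fx, D.act ⟨t, htC⟩ u (h.conj_memU hp htC u.2), D.π_eq_iff]
    constructor
    · rintro ⟨h6, h7⟩
      exact (mem_E_iff' h hp hq ht htQ u.2).mp h7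
    · intro h6
      exact ⟨u.2, (mem_E_iff' h hp hq ht htQ u.2).mpr h6⟩
  have h6 := Nat.card_congr (subgroupOfEquivOfLe (inf_le_left : U p ⊓ U q ≤ U p)).toEquiv
  rw [← h6, h5, h4]

theorem inf_eq_aux [Finite G] (h : Tri V U C) (hp : Pt V p) {q q' : G} (hq : Pt V q) (hq' : Pt V q') (hpq : p ≠ q)
    (hpq' : p ≠ q') : U p ⊓ U q ≤ U p ⊓ U q' := by
  obtain ⟨t, ht, htQ⟩ := h.exists_t hp hq hpq
  obtain ⟨t', ht', htQ'⟩ := h.exists_t hp hq' hpq'
  have h1 := mul_mem_Q_of_mem_U h hp hq hq' ht ht' htQ htQ'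
  rintro u ⟨hu, huq⟩
  refine ⟨hu, (mem_E_iff' h hp hq' ht' htQ' hu).mpr ?_⟩
  have h2 := (mem_E_iff' h hp hq ht htQ hu).mp huq
  have h3 := ((h.mem_Q_iff hp).mp h1).2 u hu
  have htt := inv_eq_self (h.sqU q hq t ht)
  have e1 : t' * u * t'⁻¹ = t⁻¹ * (t * t' * u * (t * t')⁻¹) * t := by group
  have htp : t * p = p * t := h.c_comm hp (h.U_le_C hp hq ht)
  have e2 : t⁻¹ * u * t = t * u * t⁻¹ := by rw [htt]
  have e3 : t⁻¹ * (p * u) * t = p * (t⁻¹ * u * t) := by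
    have : t⁻¹ * p = p * t⁻¹ := by rw [htt]; exact htp
    calc t⁻¹ * (p * u) * t = (t⁻¹ * p) * u * t := by group
      _ = p * (t⁻¹ * u * t) := by rw [this]; group
  have hpp := h.pp hp
  rw [e1]
  rcases h3 with h3 | h3 <;> rw [h3]
  · rw [e2]; exact h2
  · rw [e3, e2]
    rcases h2 with h2 | h2 <;> rw [h2]
    · right; rfl
    · left; rw [← mul_assoc, hpp, one_mul]

/-- (A4) `E = U_p ⊓ U_q` does not depend on `p ≠ q` -/
theorem inf_eq [Finite G] (h : Tri V U C) {p' q' : G} (hp : Pt V p) (hq : Pt V q) (hpq : p ≠ q) (hp' : Pt V p')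
    (hq' : Pt V q') (hpq' : p' ≠ q') : U p ⊓ U q = U p' ⊓ U q' := by
  have step : ∀ {p q q' : G}, Pt V p → Pt V q → Pt V q' → p ≠ q → p ≠ q' → U p ⊓ U q = U p ⊓ U q' :=
    fun hp hq hq' h1 h2 => le_antisymm (inf_eq_aux h hp hq hq' h1 h2) (inf_eq_aux h hp hq' hq h2 h1)
  by_cases h1 : p = q'
  · subst h1
    rw [step hp hq hp' hpq hpq'.symm, inf_comm]
  · rw [step hp hq hq' hpq h1, inf_comm, step hq' hp hp' (Ne.symm h1) hpq'.symm, inf_comm]

/-- (A4) `K_p ⊓ U_q = E` -/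
theorem K_inf_U [Finite G] (h : Tri V U C) (hp : Pt V p) (hq : Pt V q) (hpq : p ≠ q) :
    K U p ⊓ U q = U p ⊓ U q := by
  refine le_antisymm ?_ (inf_le_inf_right _ (h.U_le_K hp))
  rintro g ⟨hgK, hg⟩
  obtain ⟨t, ht, htQ⟩ := h.exists_t hq hp hpq.symm
  refine ⟨(mem_E_iff' h hq hp ht htQ hg).mpr (Or.inl ?_), hg⟩
  rw [mem_centralizer_iff.mp hgK t ht, mul_inv_cancel_right]

/-! ### (A5) -/

/-- (A5) `F_p = U_p ⊓ Q_q` has index 2 in `U_p` -/
theorem card_F [Finite G] (h : Tri V U C) (hp : Pt V p) (hq : Pt V q) (hpq : p ≠ q) :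
    Nat.card ↥(U p ⊓ Q U C q) = 16 := by
  obtain ⟨t, ht, htQ⟩ := h.exists_t hq hp hpq.symm
  have h1 : (U p ⊓ Q U C q).relIndex (U p) = 2 := by
    rw [inf_relIndex_left]
    rw [relIndex, index_eq_two_iff]
    refine ⟨⟨t, ht⟩, fun b => ?_⟩
    rw [mem_subgroupOf, mem_subgroupOf]
    by_cases hb : (b : G) ∈ Q U C q
    · right
      refine ⟨hb, fun h2 => htQ ?_⟩
      have h3 : (b : G)⁻¹ * (b * t) ∈ Q U C q := mul_mem (inv_mem hb) h2
      rwa [inv_mul_cancel_left] at h3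
    · left
      exact ⟨mul_mem_Q_of_mem_U h hq hp hp b.2 ht hb htQ, hb⟩
  have h2 := card_mul_relIndex' (inf_le_left : U p ⊓ Q U C q ≤ U p)
  rw [h1, h.cardU p hp] at h2
  omega

theorem mem_F_iff [Finite G] (h : Tri V U C) (hp : Pt V p) (hq : Pt V q) (hpq : p ≠ q) {t : G} (ht : t ∈ U q)
    (htQ : t ∉ Q U C p) {u : G} (hu : u ∈ U p) : u ∈ Q U C q ↔ t * u * t⁻¹ * u⁻¹ ∈ V := by
  have hqq := h.pp hq
  constructor
  · intro huQ
    rcases ((h.mem_Q_iff hq).mp huQ).2 t ht with h1 | h1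
    · have e : t * u * t⁻¹ * u⁻¹ = t * (u * t * u⁻¹)⁻¹ := by group
      rw [e, h1, mul_inv_cancel]
      exact one_mem _
    · have e : t * u * t⁻¹ * u⁻¹ = t * (u * t * u⁻¹)⁻¹ := by group
      rw [e, h1, mul_inv_rev, mul_inv_cancel_left]
      exact inv_mem hq.1
  · intro huV
    by_contra huQ
    -- all commutators lie in `V`
    have h1 : ∀ v ∈ U p, t * v * t⁻¹ * v⁻¹ ∈ V := by
      intro v hv
      have key : ∀ w ∈ U p, w ∈ Q U C q → t * w * t⁻¹ * w⁻¹ ∈ V := by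
        intro w _ hwQ
        rcases ((h.mem_Q_iff hq).mp hwQ).2 t ht with h1 | h1
        · have e : t * w * t⁻¹ * w⁻¹ = t * (w * t * w⁻¹)⁻¹ := by group
          rw [e, h1, mul_inv_cancel]
          exact one_mem _
        · have e : t * w * t⁻¹ * w⁻¹ = t * (w * t * w⁻¹)⁻¹ := by group
          rw [e, h1, mul_inv_rev, mul_inv_cancel_left]
          exact inv_mem hq.1
      by_cases hvQ : v ∈ Q U C q
      · exact key v hv hvQ
      · have h2 := mul_mem_Q_of_mem_U h hq hp hp hv hu hvQ huQ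
        have h3 := key (v * u) (mul_mem hv hu) h2
        have hV : v * (t * u * t⁻¹ * u⁻¹) * v⁻¹ = t * u * t⁻¹ * u⁻¹ := by
          have := mem_centralizer_iff.mp (h.U_le_centV hp hv) _ huV
          rw [← this, mul_inv_cancel_right]
        -- `t v u t⁻¹ u⁻¹ v⁻¹ = (t v t⁻¹)(t u t⁻¹ u⁻¹) v⁻¹ = (t v t⁻¹ v⁻¹) · v [t,u] v⁻¹`
        have e2 : t * (v * u) * t⁻¹ * (v * u)⁻¹ = (t * v * t⁻¹ * v⁻¹) * (v * (t * u * t⁻¹ * u⁻¹) * v⁻¹) := by
          group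
        rw [e2, hV] at h3
        exact (mul_mem_cancel_right huV).mp h3
    -- so `E ≤ V`
    have h2 : U p ⊓ U q ≤ V := by
      intro e he
      obtain ⟨v, hv, h3 | h3⟩ := exists_of_mem_E' h hp hq ht htQ he
      · rw [h3]; exact h1 v hv
      · rw [h3]; exact mul_mem hp.1 (h1 v hv)
    have h3 := card_le_of_le h2
    rw [card_E h hp hq hpq, h.cardV] at h3
    omega

/-- (A5) `U_p ⊓ Q_q = U_p ⊓ Q_r` -/
theorem F_eq_aux [Finite G] (h : Tri V U C) {r : G} (hp : Pt V p) (hq : Pt V q) (hpq : p ≠ q) (hr : Pt V r)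
    (hpr : p ≠ r) : U p ⊓ Q U C q ≤ U p ⊓ Q U C r := by
  obtain ⟨t, ht, htQ⟩ := h.exists_t hp hq hpq
  obtain ⟨t', ht', htQ'⟩ := h.exists_t hp hr hpr
  have h1 := mul_mem_Q_of_mem_U h hp hq hr ht ht' htQ htQ'
  rintro u ⟨hu, huq⟩
  refine ⟨hu, (mem_F_iff h hp hr hpr ht' htQ' hu).mpr ?_⟩
  have h2 := (mem_F_iff h hp hq hpq ht htQ hu).mp huq
  have h3 := ((h.mem_Q_iff hp).mp h1).2 u hu
  have htt := inv_eq_self (h.sqU q hq t ht)
  have e1 : t' * u * t'⁻¹ = t⁻¹ * (t * t' * u * (t * t')⁻¹) * t := by group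
  have htp : t * p = p * t := h.c_comm hp (h.U_le_C hp hq ht)
  have e2 : t⁻¹ * u * t = t * u * t⁻¹ := by rw [htt]
  have e3 : t⁻¹ * (p * u) * t = p * (t⁻¹ * u * t) := by
    have : t⁻¹ * p = p * t⁻¹ := by rw [htt]; exact htp
    calc t⁻¹ * (p * u) * t = (t⁻¹ * p) * u * t := by group
      _ = p * (t⁻¹ * u * t) := by rw [this]; group
  rw [e1]
  rcases h3 with h3 | h3 <;> rw [h3]
  · rw [e2]; exact h2
  · rw [e3, e2, mul_assoc]
    exact mul_mem hp.1 h2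

theorem F_eq [Finite G] (h : Tri V U C) {r : G} (hp : Pt V p) (hq : Pt V q) (hpq : p ≠ q) (hr : Pt V r)
    (hpr : p ≠ r) : U p ⊓ Q U C q = U p ⊓ Q U C r :=
  le_antisymm (F_eq_aux h hp hq hpq hr hpr) (F_eq_aux h hp hr hpr hq hpq)

/-- (A5) `[F_p, F_q] = 1` -/
theorem F_comm (h : Tri V U C) (hp : Pt V p) (hq : Pt V q) (hpq : p ≠ q) {a b : G} (ha : a ∈ U p ⊓ Q U C q)
    (hb : b ∈ U q ⊓ Q U C p) : a * b = b * a := by
  rcases ((h.mem_Q_iff hq).mp ha.2).2 b hb.1 with h1 | h1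
  · exact mul_inv_eq_iff_eq_mul.mp h1
  rcases ((h.mem_Q_iff hp).mp hb.2).2 a ha.1 with h2 | h2
  · exact (mul_inv_eq_iff_eq_mul.mp h2).symm
  exfalso
  -- `a b a⁻¹ b⁻¹ = q`, `b a b⁻¹ a⁻¹ = p`
  have e1 : a * b * a⁻¹ * b⁻¹ = q := by rw [h1, mul_inv_cancel_right]
  have e2 : b * a * b⁻¹ * a⁻¹ = p := by rw [h2, mul_inv_cancel_right]
  have e3 : a * b * a⁻¹ * b⁻¹ = (b * a * b⁻¹ * a⁻¹)⁻¹ := by group
  rw [e1, e2, inv_eq_self (h.pp hp)] at e3
  exact hpq e3.symm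

/-- (A5) `[F_q, U_p] ≠ 1` -/
theorem exists_mover [Finite G] (h : Tri V U C) (hp : Pt V p) (hq : Pt V q) (hpq : p ≠ q) :
    ∃ a ∈ U q ⊓ Q U C p, ∃ b ∈ U p, a * b * a⁻¹ = p * b := by
  by_contra hcon
  push Not at hcon
  have h1 : U q ⊓ Q U C p ≤ K U p ⊓ U q := by
    rintro a ha
    refine ⟨mem_centralizer_iff.mpr fun b hb => ?_, ha.1⟩
    rcases ((h.mem_Q_iff hp).mp ha.2).2 b hb with h2 | h2
    · exact (mul_inv_eq_iff_eq_mul.mp h2).symm
    · exact absurd h2 (hcon a ha b hb)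
  rw [K_inf_U h hp hq hpq] at h1
  have h2 := card_le_of_le h1
  rw [card_E h hp hq hpq, card_F h hq hp hpq.symm] at h2
  omega

/-- (A5) `[U_p, t] ∩ V ≤ ⟨q⟩` -/
theorem comm_mem_V [Finite G] (h : Tri V U C) (hp : Pt V p) (hq : Pt V q) (hpq : p ≠ q) {t : G} (ht : t ∈ U q)
    (htQ : t ∉ Q U C p) {v : G} (hv : v ∈ U p) (hV : t * v * t⁻¹ * v⁻¹ ∈ V) :
    t * v * t⁻¹ * v⁻¹ = 1 ∨ t * v * t⁻¹ * v⁻¹ = q := by
  have h1 := (mem_F_iff h hp hq hpq ht htQ hv).mpr hV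
  have e : t * v * t⁻¹ * v⁻¹ = t * (v * t * v⁻¹)⁻¹ := by group
  rw [e]
  rcases ((h.mem_Q_iff hq).mp h1).2 t ht with h2 | h2
  · left; rw [h2, mul_inv_cancel]
  · right
    rw [h2, mul_inv_rev, mul_inv_cancel_left, inv_eq_self (h.pp hq)]

end Cfsg.Agent.Omega.TitsAmal.TriAct
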