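import Mathlib
import Cfsg.Agent.Omega.TitsAmal.TriAct
import Cfsg.Agent.Omega.TitsAmal.TriQK
import Cfsg.Agent.Omega.TitsAmal.TriTen
import Cfsg.Agent.Classification.TitsFin.TriBO
import Cfsg.Agent.Classification.TitsFin.TwoFEnd
import Cfsg.Agent.Classification.TitsFin.Mod16

/-!
# Case B of the Tits end: `|K_p| = 64` (groups of `²F₄(2)` type)

Blueprint `P21-FIN-helper531.md`, section B, in the shortened form of helper117: (B1), (B2), (B3') and the input of
`TwoFEnd.Data.false_of`.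
-/

set_option autoImplicit false
set_option linter.style.haveILetI false

namespace Cfsg.Agent.Omega.TitsAmal.TriB

open Subgroup Cfsg Cfsg.Agent.ZN Cfsg.Agent.MinSimple.Geo
open Cfsg.Agent.Classification.TitsFin
open Cfsg.Agent.Omega.TitsAmal.Tri (Pt kst K Q cj_kst kst_le)
open Cfsg.Agent.Omega.TitsAmal.TriAct Cfsg.Agent.Omega.TitsAmal.TriQK
open Cfsg.Agent.Omega.TitsAmal.TriTen
open Cfsg.Agent.MinSimple.VModule (oddGen)
open Cfsg.Agent.ZN.Block (card_mul_relIndex' mul_mem_of_relIndex_two)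

universe u

variable {G : Type u} [Group G] {V : Subgroup G} {U C : G → Subgroup G} {p q : G}

theorem cj_K (h : Tri V U C) {n : G} (hn : n ∈ normalizer (V : Set G)) (hp : Pt V p) :
    cj n (K U p) = K U (n * p * n⁻¹) := by
  ext x
  rw [mem_cj, mem_centralizer_iff, mem_centralizer_iff, ← h.conjU n hn p hp]
  constructor
  · rintro hx _ ⟨u, hu, rfl⟩
    change n * u * n⁻¹ * x = x * (n * u * n⁻¹)
    have h1 := hx u hu
    calc n * u * n⁻¹ * x = n * (u * (n⁻¹ * x * n)) * n⁻¹ := by group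
      _ = n * (n⁻¹ * x * n * u) * n⁻¹ := by rw [h1]
      _ = x * (n * u * n⁻¹) := by group
  · intro hx u hu
    have h1 := hx (n * u * n⁻¹) ⟨u, hu, rfl⟩
    calc u * (n⁻¹ * x * n) = n⁻¹ * (n * u * n⁻¹ * x) * n := by group
      _ = n⁻¹ * (x * (n * u * n⁻¹)) * n := by rw [h1]
      _ = n⁻¹ * x * n * u := by group

theorem cj_Q (h : Tri V U C) {n : G} (hn : n ∈ normalizer (V : Set G)) (hp : Pt V p) :
    cj n (Q U C p) = Q U C (n * p * n⁻¹) := by
  rw [cj_kst, h.conjC n hn p hp, h.conjU n hn p hp]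

theorem card_K_all (h : Tri V U C) (hp : Pt V p) (hq : Pt V q) (hK : Nat.card ↥(K U p) = 64) :
    Nat.card ↥(K U q) = 64 := by
  by_cases hpq : p = q
  · rw [← hpq]; exact hK
  · obtain ⟨n, hn, h1, -⟩ := h.exists_swap hp hq hpq
    rw [← h1, ← cj_K h hn hp, card_cj]
    exact hK

theorem relIndex_U (h : Tri V U C) (hp : Pt V p) (hK : Nat.card ↥(K U p) = 64) :
    (U p).relIndex (K U p) = 2 := by
  have h1 := card_mul_relIndex' (h.U_le_K hp)
  rw [hK, h.cardU p hp] at h1
  omega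

theorem mul_mem_U (h : Tri V U C) (hp : Pt V p) (hK : Nat.card ↥(K U p) = 64) {k l : G} (hk : k ∈ K U p)
    (hl : l ∈ K U p) (hkU : k ∉ U p) (hlU : l ∉ U p) : k * l ∈ U p :=
  mul_mem_of_relIndex_two (relIndex_U h hp hK) hk hl hkU hlU

theorem exists_k (h : Tri V U C) (hp : Pt V p) (hK : Nat.card ↥(K U p) = 64) : ∃ k ∈ K U p, k ∉ U p := by
  by_contra hcon
  push Not at hcon
  have h1 := relIndex_U h hp hK
  have h2 : K U p ≤ U p := hcon
  rw [relIndex_eq_one.mpr h2] at h1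
  omega

theorem K_comm (h : Tri V U C) (hp : Pt V p) (hK : Nat.card ↥(K U p) = 64) {k l : G} (hk : k ∈ K U p)
    (hl : l ∈ K U p) : k * l = l * k := by
  by_cases hkU : k ∈ U p
  · exact mem_centralizer_iff.mp hl k hkU
  by_cases hlU : l ∈ U p
  · exact (mem_centralizer_iff.mp hk l hlU).symm
  have h1 := mem_centralizer_iff.mp hk _ (mul_mem_U h hp hK hk hl hkU hlU)
  -- `k l k = k k l`
  have h2 : k * (l * k) = k * (k * l) := by rw [← mul_assoc, h1]
  exact (mul_left_cancel h2).symm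

theorem conj_mem_K (h : Tri V U C) (hp : Pt V p) {c k : G} (hc : c ∈ C p) (hk : k ∈ K U p) :
    c * k * c⁻¹ ∈ K U p := Block.conj_mem_of_normalizer (h.C_le_normK hp) hc hk

theorem conj_mem_Q (h : Tri V U C) (hp : Pt V p) {c k : G} (hc : c ∈ C p) (hk : k ∈ Q U C p) :
    c * k * c⁻¹ ∈ Q U C p := Block.conj_mem_of_normalizer (h.C_le_normQ hp) hc hk

theorem comm_K_C (h : Tri V U C) (hp : Pt V p) (hK : Nat.card ↥(K U p) = 64) {k c : G} (hk : k ∈ K U p)
    (hc : c ∈ C p) : c * k * c⁻¹ * k⁻¹ ∈ U p := by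
  by_cases hkU : k ∈ U p
  · exact mul_mem (h.conj_memU hp hc hkU) (inv_mem hkU)
  · refine mul_mem_U h hp hK (conj_mem_K h hp hc hk) (inv_mem hk) (fun h1 => hkU ?_)
      (fun h1 => hkU (inv_mem_iff.mp h1))
    have h2 := h.conj_memU' hp hc h1
    have e : c⁻¹ * (c * k * c⁻¹) * c = k := by group
    rwa [e] at h2

variable [Finite G]

theorem pow_five (h : Tri V U C) (hp : Pt V p) {f : G} (hf : IsF U C p f) : f ^ 5 = 1 := by
  have h1 := isPGroup_Q h hp
  obtain ⟨k, hk⟩ := (IsPGroup.iff_orderOf.mp h1) ⟨f ^ 5, hf.pow⟩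
  rw [Subgroup.orderOf_mk] at hk
  have h2 : Odd (orderOf (f ^ 5)) := hf.odd.of_dvd_nat (orderOf_pow_dvd 5)
  rw [hk] at h2
  rcases Nat.eq_zero_or_pos k with rfl | hk0
  · rw [pow_zero] at hk
    exact orderOf_eq_one_iff.mp hk
  · exact absurd h2 (by
      rw [Nat.not_odd_iff_even]
      exact (Nat.even_pow.mpr ⟨even_two, hk0.ne'⟩))

/-- `f` centralises an element of `K_p - U_p` -/
theorem exists_kf (h : Tri V U C) (hp : Pt V p) (hK : Nat.card ↥(K U p) = 64) {f : G} (hf : IsF U C p f) :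
    ∃ k ∈ K U p, k ∉ U p ∧ f * k * f⁻¹ = k := by
  classical
  haveI : Fact (Nat.Prime 5) := ⟨by norm_num⟩
  have f5 := pow_five h hp hf
  let S : Type u := {k : G // k ∈ K U p ∧ k ∉ U p}
  let F : Function.End S := fun k => ⟨f * k * f⁻¹, conj_mem_K h hp hf.mem k.2.1, fun h1 => k.2.2 (by
    have h2 := h.conj_memU' hp hf.mem h1
    have e : f⁻¹ * (f * (k : G) * f⁻¹) * f = k := by group
    rwa [e] at h2)⟩
  have hF : ∀ (n : ℕ) (k : S), ((F ^ n) k : G) = f ^ n * k * (f ^ n)⁻¹ := by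
    intro n
    induction n with
    | zero =>
      intro k
      rw [pow_zero, pow_zero, one_mul, inv_one, mul_one]
      rfl
    | succ n ih =>
      intro k
      rw [pow_succ]
      change ((F ^ n) (F k) : G) = _
      rw [ih]
      change f ^ n * (f * k * f⁻¹) * (f ^ n)⁻¹ = _
      rw [pow_succ]
      group
  have h1 : F ^ 5 ^ 1 = 1 := by
    funext k
    apply Subtype.ext
    rw [pow_one, hF, f5, one_mul, inv_one, mul_one]
    rfl
  haveI : Fintype S := Fintype.ofFinite S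
  have h2 := Equiv.Perm.card_fixedPoints_modEq h1
  have h3 : Fintype.card S = 32 := by
    have e : Nat.card S = Nat.card ↥(K U p) - Nat.card ↥(U p) := by
      have h4 : ({k : G | k ∈ K U p ∧ k ∉ U p}) = (K U p : Set G) \ (U p : Set G) := rfl
      have h5 := Set.ncard_sdiff (s := (U p : Set G)) (t := (K U p : Set G)) (h.U_le_K hp) (Set.toFinite _)
      rw [← h4] at h5
      exact h5
    rw [← Nat.card_eq_fintype_card, e, hK, h.cardU p hp]
  rw [h3] at h2
  by_contra hcon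
  push Not at hcon
  have h4 : Fintype.card (Function.fixedPoints F) = 0 := by
    rw [Fintype.card_eq_zero_iff]
    refine ⟨fun k => hcon k.1.1 k.1.2.1 k.1.2.2 (congrArg Subtype.val k.2)⟩
  rw [h4] at h2
  exact absurd h2 (by decide)

/-- (B1) -/
theorem rho (h : Tri V U C) (hp : Pt V p) (hK : Nat.card ↥(K U p) = 64) {k x : G} (hk : k ∈ K U p)
    (hkU : k ∉ U p) (hx : x ∈ Q U C p) (hxk : x * k * x⁻¹ = k ∨ x * k * x⁻¹ = p * k) : x ∈ K U p := by
  obtain ⟨f, hf⟩ := exists_isF h hp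
  have hpp := h.pp hp
  have hpK : ∀ w ∈ K U p, w * p = p * w := fun w hw =>
    (mem_centralizer_iff.mp hw p (h.V_le p hp hp.1)).symm
  set N : Subgroup G := kst (Q U C p) (K U p) p with hN
  have hNinv : ∀ b ∈ N, f * b * f⁻¹ ∈ N := by
    intro b hb
    have h1 : cj f N = N := by
      rw [hN, cj_kst, cj_eq_of_mem_normalizer (h.C_le_normQ hp hf.mem),
        cj_eq_of_mem_normalizer (h.C_le_normK hp hf.mem), h.c_comm hp hf.mem, mul_inv_cancel_right]
    rw [← h1]
    exact conj_mem_cj hb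
  have hNQ : N ≤ Q U C p := kst_le _ _ _
  have hKN : K U p ≤ N := by
    intro l hl
    refine ⟨h.K_le_Q hp hl, hpK l hl, fun w hw => ?_, fun w hw => ?_⟩
    · rw [K_comm h hp hK hl hw, mul_inv_cancel_right, mul_inv_cancel]; exact one_mem _
    · rw [mul_assoc l⁻¹, K_comm h hp hK hw hl, inv_mul_cancel_left, mul_inv_cancel]; exact one_mem _
  have hxN : x ∈ N := by
    have hxp := h.c_comm hp hx.1
    have key : ∀ w ∈ K U p, x * w * x⁻¹ = w ∨ x * w * x⁻¹ = p * w := by
      intro w hw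
      by_cases hwU : w ∈ U p
      · exact ((h.mem_Q_iff hp).mp hx).2 w hwU
      · -- `w = k * u`
        have hu : k⁻¹ * w ∈ U p := mul_mem_U h hp hK (inv_mem hk) hw (fun h1 => hkU (inv_mem_iff.mp h1)) hwU
        have e : w = k * (k⁻¹ * w) := by group
        have e2 : x * w * x⁻¹ = (x * k * x⁻¹) * (x * (k⁻¹ * w) * x⁻¹) := by group
        rcases hxk with h1 | h1 <;> rcases ((h.mem_Q_iff hp).mp hx).2 _ hu with h2 | h2
        · left; rw [e2, h1, h2, ← e]
        · right
          rw [e2, h1, h2, ← mul_assoc, hpK k hk]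
          group
        · right; rw [e2, h1, h2, mul_assoc, ← e]
        · left
          rw [e2, h1, h2]
          calc p * k * (p * (k⁻¹ * w)) = p * (k * p) * (k⁻¹ * w) := by group
            _ = (p * p) * w := by rw [hpK k hk]; group
            _ = w := by rw [hpp, one_mul]
    refine ⟨hx, hxp, fun w hw => ?_, fun w hw => ?_⟩
    · rcases key w hw with h1 | h1
      · rw [h1, mul_inv_cancel]; exact one_mem _
      · rw [h1, mul_inv_cancel_right]; exact mem_zpowers p
    · have hw' := conj_mem_K h hp (inv_mem hx.1) hw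
      rw [inv_inv] at hw'
      have e : x⁻¹ * w * x * w⁻¹ = (x * (x⁻¹ * w * x) * x⁻¹ * (x⁻¹ * w * x)⁻¹)⁻¹ := by group
      rw [e]
      refine inv_mem ?_
      rcases key _ hw' with h1 | h1
      · rw [h1, mul_inv_cancel]; exact one_mem _
      · rw [h1, mul_inv_cancel_right]; exact mem_zpowers p
  rcases irred h hp hf hKN hNQ hNinv with h1 | h1
  · rw [← h1]; exact hxN
  · exfalso
    obtain ⟨k0, hk0, hk0U, hfk0⟩ := exists_kf h hp hK hf
    have hQk0 : ∀ y ∈ Q U C p, y⁻¹ * k0 * y = k0 ∨ y⁻¹ * k0 * y = p * k0 := by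
      intro y hy
      rw [← h1] at hy
      rcases (mem_zpowers_iff_of_mul_self hpp).mp (hy.2.2.2 k0 hk0) with e | e
      · left; exact mul_inv_eq_one.mp e
      · right; exact mul_inv_eq_iff_eq_mul.mp e
    have hfp := h.c_comm hp hf.mem
    have hfi : ∀ n : ℕ, f ^ n * k0 * (f ^ n)⁻¹ = k0 := by
      intro n
      induction n with
      | zero => simp
      | succ n ih =>
        have e : f ^ (n + 1) * k0 * (f ^ (n + 1))⁻¹ = f ^ n * (f * k0 * f⁻¹) * (f ^ n)⁻¹ := by
          rw [pow_succ]; group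
        rw [e, hfk0, ih]
    have hfpi : ∀ n : ℕ, f ^ n * p * (f ^ n)⁻¹ = p := by
      intro n
      have h2 : Commute (f ^ n) p := (show Commute f p from hfp).pow_left n
      rw [h2.eq, mul_inv_cancel_right]
    have hodd : ∀ g ∈ C p, Odd (orderOf g) → g * k0 = k0 * g := by
      intro g hg ho
      obtain ⟨y, hy, n, rfl⟩ := exists_conj_of_odd h hp hf hg ho
      have h2 : f ^ n * (y⁻¹ * k0 * y) * (f ^ n)⁻¹ = y⁻¹ * k0 * y := by
        rcases hQk0 y hy with h3 | h3
        · rw [h3, hfi]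
        · rw [h3]
          have e : f ^ n * (p * k0) * (f ^ n)⁻¹ = (f ^ n * p * (f ^ n)⁻¹) * (f ^ n * k0 * (f ^ n)⁻¹) := by group
          rw [e, hfi, hfpi]
      calc y * f ^ n * y⁻¹ * k0 = y * (f ^ n * (y⁻¹ * k0 * y) * (f ^ n)⁻¹) * f ^ n * y⁻¹ := by group
        _ = y * (y⁻¹ * k0 * y) * f ^ n * y⁻¹ := by rw [h2]
        _ = k0 * (y * f ^ n * y⁻¹) := by group
    have hX : ∀ x ∈ oddGen (C p), x * k0 = k0 * x := by
      have h2 : oddGen (C p) ≤ centralizer ({k0} : Set G) := by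
        unfold oddGen
        rw [closure_le]
        rintro g ⟨hg, ho⟩
        exact mem_centralizer_singleton_iff.mpr (hodd g hg ho)
      exact fun x hx => mem_centralizer_singleton_iff.mp (h2 hx)
    rcases eq_of_cent_X h hp hk0 hX with h2 | h2
    · exact hk0U (by rw [h2]; exact one_mem _)
    · exact hk0U (by rw [h2]; exact h.V_le p hp hp.1)

end Cfsg.Agent.Omega.TitsAmal.TriB
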