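import Mathlib
import Cfsg.Agent.Omega.TitsAmal.TriB
import Cfsg.Agent.Classification.TitsFin.TriBSec

/-!
# Case B of the Tits end, (B2): the squares of the elements of `Q_p` are in `U_p`
-/

set_option autoImplicit false
set_option linter.style.haveILetI false

namespace Cfsg.Agent.Omega.TitsAmal.TriB

open Subgroup Cfsg Cfsg.Agent.ZN Cfsg.Agent.MinSimple.Geo
open Cfsg.Agent.Classification.TitsFin
open Cfsg.Agent.Omega.TitsAmal.Tri (Pt kst K Q cj_kst kst_le)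
open Cfsg.Agent.Omega.TitsAmal.TriAct Cfsg.Agent.Omega.TitsAmal.TriQK
open Cfsg.Agent.Omega.TitsAmal.TriTen Cfsg.Agent.Classification.TitsFin.TriBSec
open Cfsg.Agent.MinSimple.VModule (oddGen)
open Cfsg.Agent.ZN.Block (card_mul_relIndex' mul_mem_of_relIndex_two)

universe u

variable {G : Type u} [Group G] {V : Subgroup G} {U C : G → Subgroup G} {p q : G}

theorem sq_mem_K (h : Tri V U C) (hp : Pt V p) {x : G} (hx : x ∈ Q U C p) : x * x ∈ K U p := by
  rw [mem_centralizer_iff]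
  intro u hu
  have hxp := h.c_comm hp hx.1
  have hpp := h.pp hp
  have h1 : x * x * u * (x * x)⁻¹ = u := by
    have e : x * x * u * (x * x)⁻¹ = x * (x * u * x⁻¹) * x⁻¹ := by group
    rw [e]
    rcases ((h.mem_Q_iff hp).mp hx).2 u hu with h2 | h2
    · rw [h2, h2]
    · rw [h2]
      have e2 : x * (p * u) * x⁻¹ = (x * p) * x⁻¹ * (x * u * x⁻¹) := by group
      rw [e2, hxp, mul_inv_cancel_right, h2, ← mul_assoc, hpp, one_mul]
  calc u * (x * x) = (x * x * u * (x * x)⁻¹) * (x * x) := by rw [h1]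
    _ = x * x * u := by group

theorem comm_Q_mem_K (h : Tri V U C) (hp : Pt V p) {x y : G} (hx : x ∈ Q U C p) (hy : y ∈ Q U C p) :
    x * y * x⁻¹ * y⁻¹ ∈ K U p :=
  TriBO.comm_mem (Q := Q U C p) (fun _ hx => sq_mem_K h hp hx) (fun _ hc _ hu => conj_mem_K h hp hc.1 hu) hx hy

variable [Finite G]

/-- `f` acts nontrivially on `Q_p / K_p` -/
theorem f_nontrivial (h : Tri V U C) (hp : Pt V p) (hq : Pt V q) (hpq : p ≠ q) {f : G} (hf : IsF U C p f) :
    ∃ x ∈ Q U C p, f * x * f⁻¹ * x⁻¹ ∉ K U p := by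
  by_contra hcon
  push Not at hcon
  have hqU : q ∈ U p := h.V_le p hp hq.1
  obtain ⟨c, hc, hcq⟩ := exists_move h hp hqU hq.2 (Ne.symm hpq)
  have f5 := pow_five h hp hf
  have hfp := h.c_comm hp hf.mem
  have hcp := h.c_comm hp hc.1
  have hpp := h.pp hp
  have hfiC : ∀ i : ℕ, f ^ i ∈ C p := fun i => pow_mem hf.mem i
  have hfiU : ∀ i : ℕ, f ^ i * q * (f ^ i)⁻¹ ∈ U p := fun i => h.conj_memU hp (hfiC i) hqU
  -- `c` moves all `q ^ (f ^ i)`
  have hci : ∀ i : ℕ, c * (f ^ i * q * (f ^ i)⁻¹) * c⁻¹ = p * (f ^ i * q * (f ^ i)⁻¹) := by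
    intro i
    induction i with
    | zero => simpa using hcq
    | succ n ih =>
      set w := f ^ n * q * (f ^ n)⁻¹ with hw
      have e0 : f ^ (n + 1) * q * (f ^ (n + 1))⁻¹ = f * w * f⁻¹ := by
        rw [hw, pow_succ']; group
      rw [e0]
      have hwU : w ∈ U p := hfiU n
      have hfw : f * w * f⁻¹ ∈ U p := h.conj_memU hp hf.mem hwU
      have hk := hcon c hc
      -- `f c f⁻¹ = k c`
      set k := f * c * f⁻¹ * c⁻¹ with hkdef
      have e1 : c * (f * w * f⁻¹) * c⁻¹ = k⁻¹ * (f * (c * w * c⁻¹) * f⁻¹) * k := by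
        rw [hkdef]; group
      rw [e1, ih]
      have e2 : f * (p * w) * f⁻¹ = p * (f * w * f⁻¹) := by
        calc f * (p * w) * f⁻¹ = (f * p) * w * f⁻¹ := by group
          _ = p * (f * w * f⁻¹) := by rw [hfp]; group
      rw [e2]
      have h3 := mem_centralizer_iff.mp hk _ (mul_mem (h.V_le p hp hp.1) hfw)
      rw [mul_assoc, h3, inv_mul_cancel_left]
  set z := q * (f ^ 1 * q * (f ^ 1)⁻¹) * (f ^ 2 * q * (f ^ 2)⁻¹) * (f ^ 3 * q * (f ^ 3)⁻¹) *
    (f ^ 4 * q * (f ^ 4)⁻¹) with hz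
  have hzU : z ∈ U p := mul_mem (mul_mem (mul_mem (mul_mem hqU (hfiU 1)) (hfiU 2)) (hfiU 3)) (hfiU 4)
  have hfz : f * z * f⁻¹ = z := by
    have e6 : f * z * f⁻¹ = (f ^ 1 * q * (f ^ 1)⁻¹) * (f ^ 2 * q * (f ^ 2)⁻¹) * (f ^ 3 * q * (f ^ 3)⁻¹) *
        (f ^ 4 * q * (f ^ 4)⁻¹) * (f ^ 5 * q * (f ^ 5)⁻¹) := by
      rw [hz]; group
    have e5 : f ^ 5 * q * (f ^ 5)⁻¹ = q := by rw [f5]; group
    rw [e6, e5, hz]
    have h4 := h.commU hp (mul_mem (mul_mem (mul_mem (hfiU 1) (hfiU 2)) (hfiU 3)) (hfiU 4)) hqU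
    rw [h4]
    simp only [mul_assoc]
  have hz1 : c * z * c⁻¹ = z := by
    rcases IsF.fixed h hp hf hzU (Or.inl hfz) with h1 | h1
    · rw [h1]; group
    · rw [h1, hcp, mul_inv_cancel_right]
  have hz2 : c * z * c⁻¹ = p * z := by
    have e : c * z * c⁻¹ = (c * q * c⁻¹) * (c * (f ^ 1 * q * (f ^ 1)⁻¹) * c⁻¹) *
        (c * (f ^ 2 * q * (f ^ 2)⁻¹) * c⁻¹) * (c * (f ^ 3 * q * (f ^ 3)⁻¹) * c⁻¹) *
        (c * (f ^ 4 * q * (f ^ 4)⁻¹) * c⁻¹) := by
      rw [hz]; group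
    rw [e, hcq, hci 1, hci 2, hci 3, hci 4, hz]
    have hpc : ∀ w ∈ U p, ∀ v : G, w * (p * v) = p * (w * v) := fun w hw v => by
      rw [← mul_assoc, h.commU hp hw (h.V_le p hp hp.1), mul_assoc]
    have hpp' : ∀ v : G, p * (p * v) = v := fun v => by rw [← mul_assoc, hpp, one_mul]
    simp only [mul_assoc]
    simp only [hpc _ hqU, hpp']
    have g1 := hpc _ (hfiU 1)
    have g2 := hpc _ (hfiU 2)
    have g3 := hpc _ (hfiU 3)
    simp only [mul_assoc] at g1 g2 g3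
    have g1' : ∀ v, f ^ 1 * (q * ((f ^ 1)⁻¹ * (p * v))) = p * (f ^ 1 * (q * ((f ^ 1)⁻¹ * v))) := g1
    have g2' : ∀ v, f ^ 2 * (q * ((f ^ 2)⁻¹ * (p * v))) = p * (f ^ 2 * (q * ((f ^ 2)⁻¹ * v))) := g2
    have g3' : ∀ v, f ^ 3 * (q * ((f ^ 3)⁻¹ * (p * v))) = p * (f ^ 3 * (q * ((f ^ 3)⁻¹ * v))) := g3
    rw [g1', g2', g3', g1', g2', g1', hpp']
    exact hpc _ hqU _
  rw [hz1] at hz2
  exact hp.2 (right_eq_mul.mp hz2)

/-- `f` acts without fixed points on `Q_p / K_p` -/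
theorem fix_Q (h : Tri V U C) (hp : Pt V p) (hq : Pt V q) (hpq : p ≠ q) {f : G} (hf : IsF U C p f) {x : G}
    (hx : x ∈ Q U C p) (hfx : f * x * f⁻¹ * x⁻¹ ∈ K U p) : x ∈ K U p := by
  obtain ⟨x0, hx0, hx0'⟩ := f_nontrivial h hp hq hpq hf
  let N : Subgroup G :=
    { carrier := {x | x ∈ Q U C p ∧ f * x * f⁻¹ * x⁻¹ ∈ K U p}
      mul_mem' := by
        rintro a b ⟨ha, ha'⟩ ⟨hb, hb'⟩
        refine ⟨mul_mem ha hb, ?_⟩
        have h1 := mul_mem ha' (conj_mem_K h hp ha.1 hb')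
        have e : f * a * f⁻¹ * a⁻¹ * (a * (f * b * f⁻¹ * b⁻¹) * a⁻¹) = f * (a * b) * f⁻¹ * (a * b)⁻¹ := by
          group
        rwa [e] at h1
      one_mem' := ⟨one_mem _, by simp⟩
      inv_mem' := by
        rintro a ⟨ha, ha'⟩
        refine ⟨inv_mem ha, ?_⟩
        have h1 := conj_mem_K h hp (inv_mem ha.1) (inv_mem ha')
        have e : a⁻¹ * (f * a * f⁻¹ * a⁻¹)⁻¹ * a⁻¹⁻¹ = f * a⁻¹ * f⁻¹ * a⁻¹⁻¹ := by group
        rwa [e] at h1 }
  have hKN : K U p ≤ N := fun k hk =>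
    ⟨h.K_le_Q hp hk, mul_mem (conj_mem_K h hp hf.mem hk) (inv_mem hk)⟩
  have hNQ : N ≤ Q U C p := fun x hx => hx.1
  have hinv : ∀ b ∈ N, f * b * f⁻¹ ∈ N := by
    rintro b ⟨hb, hb'⟩
    refine ⟨conj_mem_Q h hp hf.mem hb, ?_⟩
    have h1 := conj_mem_K h hp hf.mem hb'
    have e : f * (f * b * f⁻¹ * b⁻¹) * f⁻¹ = f * (f * b * f⁻¹) * f⁻¹ * (f * b * f⁻¹)⁻¹ := by group
    rwa [e] at h1
  rcases irred h hp hf hKN hNQ hinv with h1 | h1
  · rw [← h1]; exact ⟨hx, hfx⟩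
  · exfalso
    rw [← h1] at hx0
    exact hx0' hx0.2

/-- `K_q ⊓ Q_p` has index at most 2 in `K_q` -/
theorem card_KQ (h : Tri V U C) (hp : Pt V p) (hq : Pt V q) (hK : Nat.card ↥(K U q) = 64) :
    32 ≤ Nat.card ↥(K U q ⊓ Q U C p) := by
  have key : ∀ a ∈ K U q, ∀ b ∈ K U q, a ∉ Q U C p → b ∉ Q U C p → a * b ∈ Q U C p := by
    intro a ha b hb haQ hbQ
    have hsq : ∀ k ∈ K U q, k * k ∈ Q U C p := by
      intro k hk
      have h1 : k * k ∈ U p := by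
        rcases sq_K h hq hk with e | e
        · rw [e]; exact one_mem _
        · rw [e]; exact h.V_le p hp hq.1
      exact h.K_le_Q hp (h.U_le_K hp h1)
    obtain ⟨n, hn⟩ := (isPGroup_K h hq) ⟨a * b, mul_mem ha hb⟩
    refine mul_mem_Q h hp (h.K_le_C hp hq ha) (h.K_le_C hp hq hb) (hsq a ha) (hsq b hb) haQ hbQ (n := n) ?_
    have h2 := congrArg Subtype.val hn
    have h3 : (a * b) ^ 2 ^ n = 1 := h2
    rw [h3]; exact one_mem _
  set D := (K U q ⊓ Q U C p) with hD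
  have h1 := card_mul_relIndex' (show D ≤ K U q from inf_le_left)
  rw [hK] at h1
  have h2 : D.relIndex (K U q) ≤ 2 := by
    by_cases hall : ∀ a ∈ K U q, a ∈ Q U C p
    · have : D.relIndex (K U q) = 1 := relIndex_eq_one.mpr fun a ha => ⟨ha, hall a ha⟩
      omega
    · push Not at hall
      obtain ⟨a, ha, haQ⟩ := hall
      have : (D.subgroupOf (K U q)).index = 2 := by
        rw [Subgroup.index_eq_two_iff]
        refine ⟨⟨a, ha⟩, fun b => ?_⟩
        by_cases hb : (b : G) ∈ Q U C p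
        · right
          refine ⟨mem_subgroupOf.mpr ⟨b.2, hb⟩, fun h3 => haQ ?_⟩
          have h4 := (mem_subgroupOf.mp h3).2
          have e : (b : G)⁻¹ * ((b * ⟨a, ha⟩ : K U q) : G) = a := by
            push_cast; group
          rw [← e]
          exact mul_mem (inv_mem hb) h4
        · left
          refine ⟨mem_subgroupOf.mpr ⟨mul_mem b.2 ha, key _ b.2 _ ha hb haQ⟩, fun h3 => hb ?_⟩
          exact (mem_subgroupOf.mp h3).2
      exact this.le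
  nlinarith

/-- (B2) -/
theorem sq_mem_U (h : Tri V U C) (hp : Pt V p) (hq : Pt V q) (hpq : p ≠ q) (hK : Nat.card ↥(K U p) = 64)
    {x : G} (hx : x ∈ Q U C p) : x * x ∈ U p := by
  have hKq := card_K_all h hp hq hK
  obtain ⟨f, hf⟩ := exists_isF h hp
  have f5 := pow_five h hp hf
  obtain ⟨t, htU, htQ⟩ := h.exists_t hp hq hpq
  have htC : t ∈ C p := h.U_le_C hp hq htU
  have htt := h.sqU q hq t htU
  have hKQ := h.K_le_Q hp
  obtain ⟨M, instM, μ, hμ⟩ := exists_section (Q U C p) (K U p)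
    (fun x hx y hy => comm_Q_mem_K h hp hx hy)
  have hM : Nat.card M = 16 := by rw [hμ.card]; exact relIndex_K h hp
  haveI : Finite M := Nat.finite_of_card_ne_zero (by rw [hM]; norm_num)
  have sq : ∀ m : M, m * m = 1 := by
    intro m
    obtain ⟨x, hx, rfl⟩ := hμ.surj m
    rw [← hμ.mul x hx x hx, hμ.ker _ (mul_mem hx hx)]
    exact sq_mem_K h hp hx
  have aut : ∀ c ∈ C p, ∃ s : MulAut M, ∀ x ∈ Q U C p, s (μ x) = μ (c * x * c⁻¹) := by
    intro c hc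
    refine hμ.exists_aut (fun x hx => conj_mem_Q h hp hc hx) (fun x hx => ?_)
      (fun x hx => conj_mem_K h hp hc hx) (fun x hx => ?_)
    · have := conj_mem_Q h hp (inv_mem hc) hx
      rwa [inv_inv] at this
    · have := conj_mem_K h hp (inv_mem hc) hx
      rwa [inv_inv] at this
  obtain ⟨F, hF⟩ := aut f hf.mem
  obtain ⟨T, hT⟩ := aut t htC
  have hFn : ∀ (n : ℕ), ∀ x ∈ Q U C p, (F ^ n) (μ x) = μ (f ^ n * x * (f ^ n)⁻¹) := by
    intro n
    induction n with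
    | zero => intro x hx; rw [pow_zero, pow_zero, one_mul, inv_one, mul_one]; rfl
    | succ n ih =>
      intro x hx
      rw [pow_succ, Cfsg.Agent.Classification.TitsFin.Mod16.mul_apply, hF x hx, ih _ (conj_mem_Q h hp hf.mem hx)]
      congr 1
      rw [pow_succ]
      group
  have F5 : F ^ 5 = 1 := by
    ext m
    obtain ⟨x, hx, rfl⟩ := hμ.surj m
    rw [hFn 5 x hx, f5, one_mul, inv_one, mul_one]
    rfl
  have F1 : F ≠ 1 := by
    intro h1
    obtain ⟨x0, hx0, hx0'⟩ := f_nontrivial h hp hq hpq hf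
    apply hx0'
    have h2 := hF x0 hx0
    rw [h1] at h2
    have h3 : μ x0 = μ (f * x0 * f⁻¹) := h2
    rw [eq_comm, hμ.eq_iff (conj_mem_Q h hp hf.mem hx0) hx0] at h3
    have h4 := conj_mem_K h hp hx0.1 (inv_mem h3)
    have e : x0 * ((f * x0 * f⁻¹)⁻¹ * x0)⁻¹ * x0⁻¹ = f * x0 * f⁻¹ * x0⁻¹ := by group
    rwa [e] at h4
  have TT : T * T = 1 := by
    ext m
    obtain ⟨x, hx, rfl⟩ := hμ.surj m
    rw [Cfsg.Agent.Classification.TitsFin.Mod16.mul_apply, hT x hx, hT _ (conj_mem_Q h hp htC hx)]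
    have e : t * (t * x * t⁻¹) * t⁻¹ = (t * t) * x * (t * t)⁻¹ := by group
    rw [e, htt, one_mul, inv_one, mul_one]
    rfl
  have Tinv : T⁻¹ = T := inv_eq_of_mul_eq_one_left TT
  have htinv : t⁻¹ = t := inv_eq_of_mul_eq_one_left htt
  have TFT : T * F * T⁻¹ = F⁻¹ := by
    rw [eq_inv_iff_mul_eq_one, Tinv]
    ext m
    obtain ⟨x, hx, rfl⟩ := hμ.surj m
    have h1 := conj_mem_Q h hp hf.mem hx
    have h2 := conj_mem_Q h hp htC h1
    have h3 := conj_mem_Q h hp hf.mem h2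
    rw [Cfsg.Agent.Classification.TitsFin.Mod16.mul_apply, Cfsg.Agent.Classification.TitsFin.Mod16.mul_apply, Cfsg.Agent.Classification.TitsFin.Mod16.mul_apply, hF x hx, hT _ h1, hF _ h2, hT _ h3]
    have hy : t * f * t⁻¹ * f ∈ Q U C p := IsF.inv_of_sq h hp hf htC (by rw [htt]; exact one_mem _) htQ
    rw [MulAut.one_apply, hμ.eq_iff (conj_mem_Q h hp htC h3) hx]
    have h4 := comm_Q_mem_K h hp hy (inv_mem hx)
    have e : (t * (f * (t * (f * x * f⁻¹) * t⁻¹) * f⁻¹) * t⁻¹)⁻¹ * x =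
        (t * f * t * f) * x⁻¹ * (t * f * t * f)⁻¹ * x⁻¹⁻¹ := by group
    rw [e]
    rwa [htinv] at h4
  -- `fx T` is the image of `K_q ⊓ Q_p`
  have himg : ∀ m ∈ Cfsg.Agent.Classification.TitsFin.Mod16.fx T, ∃ a ∈ K U q ⊓ Q U C p, μ a = m := by
    let ψ : ↥(K U q ⊓ Q U C p) →* M :=
      { toFun := fun a => μ a
        map_one' := hμ.one
        map_mul' := fun a b => hμ.mul _ a.2.2 _ b.2.2 }
    have h1 : ψ.range ≤ Cfsg.Agent.Classification.TitsFin.Mod16.fx T := by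
      rintro _ ⟨a, rfl⟩
      rw [Cfsg.Agent.Classification.TitsFin.Mod16.mem_fx]
      change T (μ a) = μ a
      rw [hT _ a.2.2, mem_centralizer_iff.mp a.2.1 t htU, mul_inv_cancel_right]
    have h2 : Nat.card ψ.ker ≤ 8 := by
      rw [← card_E h hp hq hpq]
      refine Nat.card_le_card_of_injective
        (fun a : ψ.ker => (⟨a.1.1, ?_⟩ : ↥(U p ⊓ U q))) ?_
      · rw [← K_inf_K h hp hq hpq]
        exact ⟨(hμ.ker _ a.1.2.2).mp a.2, a.1.2.1⟩
      · intro a b hab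
        have h9 : (a.1.1 : G) = b.1.1 := congrArg (fun z : ↥(U p ⊓ U q) => (z : G)) hab
        exact Subtype.ext (Subtype.ext h9)
    have h3 : Nat.card ψ.range * Nat.card ψ.ker = Nat.card ↥(K U q ⊓ Q U C p) := by
      rw [← Subgroup.index_ker ψ, mul_comm]
      exact Subgroup.card_mul_index _
    have h4 := card_KQ h hp hq hKq
    have h5 := Cfsg.Agent.Classification.TitsFin.Mod16.card_fx hM sq F5 F1 TT TFT
    have h6 : ψ.range = Cfsg.Agent.Classification.TitsFin.Mod16.fx T := by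
      refine Subgroup.eq_of_le_of_card_ge h1 ?_
      rw [h5]
      nlinarith
    intro m hm
    rw [← h6] at hm
    obtain ⟨a, ha⟩ := hm
    exact ⟨a, a.2, ha⟩
  obtain ⟨k, -, m, hm, hkm⟩ := Cfsg.Agent.Classification.TitsFin.Mod16.spread hM sq F5 F1 TT TFT (μ x)
  obtain ⟨a, ha, rfl⟩ := himg m hm
  rw [hFn k a ha.2] at hkm
  have haQ := ha.2
  have hfk : f ^ k ∈ C p := pow_mem hf.mem k
  have hb := conj_mem_Q h hp hfk haQ
  rw [hμ.eq_iff hb hx] at hkm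
  set b := f ^ k * a * (f ^ k)⁻¹ with hbdef
  have haa : a * a ∈ U p := by
    rcases sq_K h hq ha.1 with e | e
    · rw [e]; exact one_mem _
    · rw [e]; exact h.V_le p hp hq.1
  have hbb : b * b ∈ U p := by
    have h1 := h.conj_memU hp hfk haa
    have e : f ^ k * (a * a) * (f ^ k)⁻¹ = b * b := by rw [hbdef]; group
    rwa [e] at h1
  set κ := b⁻¹ * x with hκ
  have e : x * x = b * b * ((b⁻¹ * κ * b * κ⁻¹) * (κ * κ)) := by rw [hκ]; group
  rw [e]
  refine mul_mem hbb (mul_mem ?_ ?_)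
  · have h1 := comm_K_C h hp hK hkm (inv_mem hb.1)
    rwa [inv_inv] at h1
  · rcases sq_K h hp hkm with e | e
    · rw [e]; exact one_mem _
    · rw [e]; exact h.V_le p hp hp.1

end Cfsg.Agent.Omega.TitsAmal.TriB
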