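import Cfsg.Agent.Omega.TitsAmal.TriFin
import Cfsg.Agent.Omega.TitsAmal.TriB4
import Cfsg.Agent.Omega.TitsIso.Main
import Cfsg.Agent.Omega.TitsIso.Index

/-!
# The Tits group from its amalgam, without solvability

`Dat V W z`: `V` is a four-group, `N_G(V)` induces `S₃` on `V`, `z ∈ V`, `W ≥ V` is elementary abelian of order 32 and
normal in `C_G(z)`, the kernel of `C_G(z)` on `W / ⟨z⟩` has index 10 or 20 in `C_G(z)`, `W` does not commute with its
conjugates `W ^ n`, `n ∈ N_G(V) - C_G(z)`, and no nontrivial 2-group is normalised by `C_G(z)` and `N_G(V)`.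

`Dat.isoTits`: if `G` is of characteristic 2 type and has no subgroup of index 2, then `G` is the Tits group.
-/

set_option autoImplicit false

namespace Cfsg.Agent.Omega.TitsAmal

open Subgroup Cfsg Cfsg.Agent.ZN Cfsg.Agent.MinSimple.Geo
open Cfsg.Agent.Classification.TitsFin
open Cfsg.Agent.Omega.TitsAmal.Tri (Pt kst cj_kst)
open Cfsg.Agent.ZN.Block (conj_mem_of_normalizer conj_mem_of_normalizer' le_normalizer_of_forall)

universe u

variable {G : Type u} [Group G]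

/-- the amalgam -/
structure Dat (V W : Subgroup G) (z : G) : Prop where
  cardV : Nat.card V = 4
  sqV : ∀ v ∈ V, v * v = 1
  zV : z ∈ V
  z1 : z ≠ 1
  trans : ∀ v ∈ V, v ≠ 1 → ∃ n ∈ normalizer (V : Set G), n * z * n⁻¹ = v
  swap : ∃ s ∈ normalizer (V : Set G), s * z * s⁻¹ = z ∧ ∃ v ∈ V, s * v * s⁻¹ ≠ v
  cardW : Nat.card W = 32
  sqW : ∀ w ∈ W, w * w = 1
  VW : V ≤ W
  CW : centralizer ({z} : Set G) ≤ normalizer (W : Set G)
  idx : (kst (centralizer ({z} : Set G)) W z).relIndex (centralizer ({z} : Set G)) = 10 ∨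
    (kst (centralizer ({z} : Set G)) W z).relIndex (centralizer ({z} : Set G)) = 20
  nc : ∀ n ∈ normalizer (V : Set G), n * z * n⁻¹ ≠ z →
    ∃ a ∈ W, ∃ b ∈ W, a * (n * b * n⁻¹) ≠ (n * b * n⁻¹) * a
  nonloc : ∀ R : Subgroup G, IsPGroup 2 R → centralizer ({z} : Set G) ≤ normalizer (R : Set G) →
    normalizer (V : Set G) ≤ normalizer (R : Set G) → R = ⊥

namespace Dat

variable {V W : Subgroup G} {z : G} (D : Dat V W z)
include D

theorem zz : z * z = 1 := D.sqV z D.zV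

/-- an element `n ∈ N_G(V)` with `n z n⁻¹ = p` -/
theorem exists_n {p : G} (hp : Pt V p) : ∃ n ∈ normalizer (V : Set G), n * z * n⁻¹ = p :=
  D.trans p hp.1 hp.2

open Classical in
omit D in
/-- the subgroup `U p = n W n⁻¹` -/
noncomputable def Uf (V W : Subgroup G) (z p : G) : Subgroup G :=
  if h : ∃ n ∈ normalizer (V : Set G), n * z * n⁻¹ = p then cj h.choose W else ⊥

theorem Uf_eq {n p : G} (hn : n ∈ normalizer (V : Set G)) (hp : n * z * n⁻¹ = p) :
    Uf V W z p = cj n W := by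
  have h : ∃ n ∈ normalizer (V : Set G), n * z * n⁻¹ = p := ⟨n, hn, hp⟩
  rw [Uf, dif_pos h]
  obtain ⟨h1, h2⟩ := h.choose_spec
  set m := h.choose with hm
  have h3 : n⁻¹ * m ∈ centralizer ({z} : Set G) := by
    rw [mem_centralizer_singleton_iff]
    have h4 : m * z * m⁻¹ = n * z * n⁻¹ := by rw [h2, hp]
    calc n⁻¹ * m * z = n⁻¹ * (m * z * m⁻¹) * m := by group
      _ = z * (n⁻¹ * m) := by rw [h4]; group
  have h5 := cj_eq_of_mem_normalizer (D.CW h3)
  calc cj m W = cj (n * (n⁻¹ * m)) W := by rw [mul_inv_cancel_left]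
    _ = cj n (cj (n⁻¹ * m) W) := (cj_cj _ _ _).symm
    _ = cj n W := by rw [h5]

theorem Uf_z : Uf V W z z = W := by
  rw [D.Uf_eq (one_mem _) (by group), cj_one]

/-- the four elements of `V` -/
theorem four {p a b : G} (hp : Pt V p) (ha : Pt V a) (hap : a ≠ p) (hb : b ∈ V) :
    b = 1 ∨ b = p ∨ b = a ∨ b = p * a := by
  classical
  have hza : p * a ∈ V := mul_mem hp.1 ha.1
  have hinv : p⁻¹ = p := inv_eq_self (D.sqV p hp.1)
  have hfin : Finite V := Nat.finite_of_card_ne_zero (by rw [D.cardV]; norm_num)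
  have h1 : ({1, p, a, p * a} : Set G) ⊆ (V : Set G) := by
    intro x hx
    rcases hx with rfl | rfl | rfl | rfl
    · exact one_mem _
    · exact hp.1
    · exact ha.1
    · exact hza
  have n1 : (1 : G) ≠ p := Ne.symm hp.2
  have n2 : (1 : G) ≠ a := Ne.symm ha.2
  have n3 : (1 : G) ≠ p * a := by
    intro e
    exact hap (by rw [← inv_eq_of_mul_eq_one_right e.symm, hinv])
  have n4 : p ≠ a := Ne.symm hap
  have n5 : p ≠ p * a := by
    intro e
    exact ha.2 (left_eq_mul.mp e)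
  have n6 : a ≠ p * a := by
    intro e
    exact hp.2 (right_eq_mul.mp e)
  have h2 : ({1, p, a, p * a} : Set G).ncard = 4 := by
    rw [Set.ncard_insert_of_notMem, Set.ncard_insert_of_notMem, Set.ncard_pair n6]
    · simp only [Set.mem_insert_iff, Set.mem_singleton_iff]; push Not; exact ⟨n4, n5⟩
    · simp only [Set.mem_insert_iff, Set.mem_singleton_iff]; push Not; exact ⟨n1, n2, n3⟩
  have h3 : (V : Set G).ncard = 4 := by
    rw [← D.cardV]; rfl
  have h4 := Set.eq_of_subset_of_ncard_le h1 (by rw [h2, h3]) (Set.toFinite _)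
  have h5 : b ∈ ({1, p, a, p * a} : Set G) := by rw [h4]; exact hb
  exact h5

/-- the four elements of `V` -/
theorem cases {a b : G} (ha : a ∈ V) (ha1 : a ≠ 1) (haz : a ≠ z) (hb : b ∈ V) :
    b = 1 ∨ b = z ∨ b = a ∨ b = z * a := D.four ⟨D.zV, D.z1⟩ ⟨ha, ha1⟩ haz hb

omit D in
theorem conj_mem_V {n v : G} (hn : n ∈ normalizer (V : Set G)) (hv : v ∈ V) : n * v * n⁻¹ ∈ V :=
  (mem_normalizer_iff.mp hn v).mp hv

omit D in
theorem conj_mem_V' {n v : G} (hn : n ∈ normalizer (V : Set G)) (hv : v ∈ V) : n⁻¹ * v * n ∈ V := by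
  have := conj_mem_V (inv_mem hn) hv
  rwa [inv_inv] at this

omit D in
theorem conj_pt {n p : G} (hn : n ∈ normalizer (V : Set G)) (hp : Pt V p) : Pt V (n * p * n⁻¹) :=
  ⟨conj_mem_V hn hp.1, fun e => hp.2 (conj_eq_one_iff.mp e)⟩

/-- two ordered pairs of points are conjugate -/
theorem sym {p q p' q' : G} (hp : Pt V p) (hq : Pt V q) (hpq : p ≠ q) (hp' : Pt V p') (hq' : Pt V q')
    (hpq' : p' ≠ q') : ∃ n ∈ normalizer (V : Set G), n * p * n⁻¹ = p' ∧ n * q * n⁻¹ = q' := by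
  obtain ⟨n1, hn1, e1⟩ := D.exists_n hp
  obtain ⟨n2, hn2, e2⟩ := D.exists_n hp'
  have ha : n1⁻¹ * q * n1 ∈ V := conj_mem_V' hn1 hq.1
  have ha1 : n1⁻¹ * q * n1 ≠ 1 := by
    intro e
    apply hq.2
    have : q = n1 * (n1⁻¹ * q * n1) * n1⁻¹ := by group
    rw [this, e]; group
  have haz : n1⁻¹ * q * n1 ≠ z := by
    intro e
    apply hpq
    rw [← e1, ← e]; group
  have hb : n2⁻¹ * q' * n2 ∈ V := conj_mem_V' hn2 hq'.1
  have hb1 : n2⁻¹ * q' * n2 ≠ 1 := by
    intro e
    apply hq'.2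
    have : q' = n2 * (n2⁻¹ * q' * n2) * n2⁻¹ := by group
    rw [this, e]; group
  have hbz : n2⁻¹ * q' * n2 ≠ z := by
    intro e
    apply hpq'
    rw [← e2, ← e]; group
  rcases D.cases ha ha1 haz hb with h | h | h | h
  · exact absurd h hb1
  · exact absurd h hbz
  · refine ⟨n2 * n1⁻¹, mul_mem hn2 (inv_mem hn1), ?_, ?_⟩
    · rw [← e1, ← e2]; group
    · calc n2 * n1⁻¹ * q * (n2 * n1⁻¹)⁻¹ = n2 * (n1⁻¹ * q * n1) * n2⁻¹ := by group
        _ = q' := by rw [← h]; group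
  · obtain ⟨s, hs, hsz, v, hv, hsv⟩ := D.swap
    have hsa : s * (n1⁻¹ * q * n1) * s⁻¹ = z * (n1⁻¹ * q * n1) := by
      rcases D.cases ha ha1 haz (conj_mem_V hs ha) with h' | h' | h' | h'
      · exact absurd (conj_eq_one_iff.mp h') ha1
      · exfalso
        apply haz
        have : n1⁻¹ * q * n1 = s⁻¹ * (s * (n1⁻¹ * q * n1) * s⁻¹) * s := by group
        rw [this, h']
        have : z = s * z * s⁻¹ := hsz.symm
        nth_rewrite 1 [this]; group
      · exfalso
        apply hsv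
        rcases D.cases ha ha1 haz hv with h'' | h'' | h'' | h''
        · rw [h'']; group
        · rw [h'', hsz]
        · rw [h'', h']
        · rw [h'']
          calc s * (z * (n1⁻¹ * q * n1)) * s⁻¹ = (s * z * s⁻¹) * (s * (n1⁻¹ * q * n1) * s⁻¹) := by group
            _ = z * (n1⁻¹ * q * n1) := by rw [hsz, h']
      · exact h'
    refine ⟨n2 * s * n1⁻¹, mul_mem (mul_mem hn2 hs) (inv_mem hn1), ?_, ?_⟩
    · rw [← e1, ← e2]
      calc n2 * s * n1⁻¹ * (n1 * z * n1⁻¹) * (n2 * s * n1⁻¹)⁻¹ = n2 * (s * z * s⁻¹) * n2⁻¹ := by group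
        _ = n2 * z * n2⁻¹ := by rw [hsz]
    · calc n2 * s * n1⁻¹ * q * (n2 * s * n1⁻¹)⁻¹ = n2 * (s * (n1⁻¹ * q * n1) * s⁻¹) * n2⁻¹ := by group
        _ = q' := by rw [hsa, ← h]; group

/-- the configuration of the three points -/
theorem tri [Finite G] (hG : IsCharacteristicTwoType G) :
    Tri V (Uf V W z) (fun p => centralizer ({p} : Set G)) where
  cardV := D.cardV
  sqV := D.sqV
  cardU p hp := by
    obtain ⟨n, hn, e⟩ := D.exists_n hp
    rw [D.Uf_eq hn e, card_cj, D.cardW]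
  sqU p hp u hu := by
    obtain ⟨n, hn, e⟩ := D.exists_n hp
    rw [D.Uf_eq hn e] at hu
    obtain ⟨w, hw, rfl⟩ := hu
    change n * w * n⁻¹ * (n * w * n⁻¹) = 1
    have h1 := D.sqW w hw
    calc n * w * n⁻¹ * (n * w * n⁻¹) = n * (w * w) * n⁻¹ := by group
      _ = 1 := by rw [h1]; group
  V_le p hp := by
    obtain ⟨n, hn, e⟩ := D.exists_n hp
    rw [D.Uf_eq hn e, ← cj_eq_of_mem_normalizer hn]
    exact cj_mono D.VW
  C_le p hp := le_rfl
  C_norm p hp := by
    obtain ⟨n, hn, e⟩ := D.exists_n hp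
    intro c hc
    rw [mem_normalizer_iff_cj, D.Uf_eq hn e]
    have h1 : n⁻¹ * c * n ∈ centralizer ({z} : Set G) := by
      rw [mem_centralizer_singleton_iff] at hc ⊢
      rw [← e] at hc
      calc n⁻¹ * c * n * z = n⁻¹ * (c * (n * z * n⁻¹)) * n := by group
        _ = z * (n⁻¹ * c * n) := by rw [hc]; group
    have h2 := cj_eq_of_mem_normalizer (D.CW h1)
    calc cj c (cj n W) = cj (n * (n⁻¹ * c * n)) W := by rw [cj_cj]; congr 1; group
      _ = cj n (cj (n⁻¹ * c * n) W) := (cj_cj _ _ _).symm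
      _ = cj n W := by rw [h2]
  le_C p hp := inf_le_right
  sym p q p' q' hp hq hpq hp' hq' hpq' := D.sym hp hq hpq hp' hq' hpq'
  conjU n hn p hp := by
    obtain ⟨m, hm, e⟩ := D.exists_n hp
    rw [D.Uf_eq hm e, cj_cj, D.Uf_eq (mul_mem hn hm) (by rw [← e]; group)]
  conjC n hn p hp := cj_centralizer_singleton n p
  idx p hp := by
    obtain ⟨n, hn, e⟩ := D.exists_n hp
    have h1 := D.idx
    rw [← relIndex_cj n, cj_kst, cj_centralizer_singleton, e, ← D.Uf_eq hn e] at h1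
    exact h1
  nc p q hp hq hpq := by
    obtain ⟨n, hn, e⟩ := D.exists_n hp
    obtain ⟨m, hm, e'⟩ := D.exists_n hq
    obtain ⟨a, ha, b, hb, hab⟩ := D.nc (n⁻¹ * m) (mul_mem (inv_mem hn) hm) (by
      intro h
      apply hpq
      calc p = n * z * n⁻¹ := e.symm
        _ = n * (n⁻¹ * m * z * (n⁻¹ * m)⁻¹) * n⁻¹ := by rw [h]
        _ = m * z * m⁻¹ := by group
        _ = q := e')
    refine ⟨n * a * n⁻¹, ?_, m * b * m⁻¹, ?_, fun h => hab ?_⟩
    · rw [D.Uf_eq hn e]; exact conj_mem_cj ha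
    · rw [D.Uf_eq hm e']; exact conj_mem_cj hb
    · calc a * (n⁻¹ * m * b * (n⁻¹ * m)⁻¹) = n⁻¹ * ((n * a * n⁻¹) * (m * b * m⁻¹)) * n := by group
        _ = n⁻¹ * ((m * b * m⁻¹) * (n * a * n⁻¹)) * n := by rw [h]
        _ = n⁻¹ * m * b * (n⁻¹ * m)⁻¹ * a := by group
  nonloc p hp R hR h1 hnV := by
    have hzp : centralizer ({z} : Set G) ≤ normalizer (R : Set G) := by
      obtain ⟨n, hn, e⟩ := D.exists_n hp
      intro c hc
      have h3 : n * c * n⁻¹ ∈ centralizer ({p} : Set G) := by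
        rw [mem_centralizer_singleton_iff] at hc ⊢
        rw [← e]
        calc n * c * n⁻¹ * (n * z * n⁻¹) = n * (c * z) * n⁻¹ := by group
          _ = n * z * n⁻¹ * (n * c * n⁻¹) := by rw [hc]; group
      have h4 := h1 h3
      have h5 := mul_mem (mul_mem (inv_mem (hnV hn)) h4) (hnV hn)
      have e2 : n⁻¹ * (n * c * n⁻¹) * n = c := by group
      rwa [e2] at h5
    exact D.nonloc R hR hzp hnV
  alt := by
    refine Or.inr ⟨fun _ _ => rfl, fun R hR hR1 => ?_⟩
    have h1 : IsTwoLocal (normalizer (R : Set G)) := ⟨R, hR, hR1, rfl⟩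
    have h2 : R ≤ o2 (normalizer (R : Set G)) :=
      Block.le_o2 hR le_normalizer le_rfl
    intro g hg
    refine inf_centralizer_o2_le hG h1 ⟨?_, hg⟩
    exact centralizer_le_normalizer _ (centralizer_le h2 hg)
  char2 p hp := inf_centralizer_o2_le hG (isTwoLocal_centralizer (D.sqV p hp.1) hp.2)

/-- the final configuration of `Classification/TitsFin` -/
theorem finHyp [Finite G] (hG : IsCharacteristicTwoType G) (h2 : ∀ N : Subgroup G, N.index ≠ 2) {p : G}
    (hp : Pt V p) (hpz : p ≠ z) : FinHyp z p := by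
  have h := D.tri hG
  have hz : Pt V z := ⟨D.zV, D.z1⟩
  rcases TriTen.card_K h hz with hK | hK
  · exact TriFin.finHyp h hz hp hpz.symm rfl hK
  · exact (TriB.caseB_false h hz hp hpz.symm hK rfl h2).elim

theorem exists_pt : ∃ p, Pt V p ∧ p ≠ z := by
  by_contra hcon
  push Not at hcon
  have h1 : V ≤ zpowers z := by
    intro v hv
    by_cases hv1 : v = 1
    · rw [hv1]; exact one_mem _
    · rw [hcon v ⟨hv, hv1⟩]; exact mem_zpowers z
  have h3 : Nat.card (zpowers z) ≤ 2 := by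
    rw [Nat.card_zpowers]
    exact orderOf_le_of_pow_eq_one (by norm_num) (by rw [pow_two]; exact D.zz)
  have hfin : Finite (zpowers z) := by
    have : IsOfFinOrder z := isOfFinOrder_iff_pow_eq_one.mpr ⟨2, by norm_num, by rw [pow_two]; exact D.zz⟩
    exact this.finite_zpowers
  have h2 := Subgroup.card_le_of_le h1
  rw [D.cardV] at h2
  omega

/-- **The Tits group from its amalgam.** -/
theorem isoTits [Finite G] (hG : IsCharacteristicTwoType G) (h2 : ∀ N : Subgroup G, N.index ≠ 2) :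
    Cfsg.Lie.IsoTits G := by
  obtain ⟨p, hp, hpz⟩ := D.exists_pt
  exact TitsIso.isoTits_of TitsIso.indexLe (D.finHyp hG h2 hp hpz) hG

/-- **The Tits group from its amalgam.** -/
theorem known [Finite G] (hG : IsCharacteristicTwoType G) (h2 : ∀ N : Subgroup G, N.index ≠ 2) :
    IsKnownSimple' G := by
  obtain ⟨p, hp, hpz⟩ := D.exists_pt
  exact TitsIso.known_of TitsIso.indexLe (D.finHyp hG h2 hp hpz) hG

end Dat

end Cfsg.Agent.Omega.TitsAmal
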